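import Cfsg.Agent.Lib.LocalEven.InversionControl.Climb

/-!
In a group in which a Sylow subgroup lies in a unique maximal subgroup `H₁`, a pair of conjugates with the
property that every `p`-subgroup of the group they generate containing the first one lies in `H₁`, together with
its normalizer.
-/

set_option autoImplicit false
set_option linter.unusedSectionVars false

namespace CfsgLib.LocalEven.AutomizerControl

open CfsgLib.LocalEven.InversionControl CfsgLib.LocalEven.SylowIn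

variable {M : Type*} [Group M] [Finite M] {p : ℕ} [Fact p.Prime]

theorem exists_pair_over (P : Sylow p M) (T : Subgroup M) [T.Normal] (H₁ : Subgroup M) (hH₁ : H₁ ≠ ⊤)
    (hover : ∀ K : Subgroup M, (P : Subgroup M) ≤ K → K ≠ ⊤ → K ≤ H₁)
    (hcore : ∀ U : Subgroup M, U.Normal → T ≤ U → IsPGroup p U → U = T) (hTP : T ≤ (P : Subgroup M))
    (Q : M → Prop) (hQ : ∀ g x, Q x → Q (g * x * g⁻¹)) (hQT : ∀ x ∈ T, Q x)
    (hex : ∃ a ∈ (P : Subgroup M), Q a ∧ a ∉ T) :
    ∃ a b : M, a ∈ (P : Subgroup M) ∧ Q a ∧ Q b ∧ a ∉ T ∧ b ∉ H₁ ∧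
      ∀ R : Subgroup M, R ≤ Subgroup.closure ({a, b} : Set M) → IsPGroup p R → a ∈ R →
        R ≤ H₁ ∧ Subgroup.closure ({a, b} : Set M) ⊓ Subgroup.normalizer (R : Set M) ≤ H₁ := by
  have hPH : (P : Subgroup M) ≤ H₁ := by
    refine hover _ le_rfl fun e => ?_
    obtain ⟨a, haP, -, haT⟩ := hex
    exact haT (hcore ⊤ inferInstance le_top (e ▸ P.2) ▸ Subgroup.mem_top a)
  have hPsyl : IsSylowIn p (P : Subgroup M) H₁ := ⟨hPH, P.2, fun U _ hU hle => P.3 hU hle⟩
  -- conjugation by elements of `H₁`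
  have hgenmap : ∀ (V : Subgroup M) (u : M), gen Q (V.map (MulAut.conj u).toMonoidHom) =
      (gen Q V).map (MulAut.conj u).toMonoidHom := by
    intro V u
    rw [gen, gen, MonoidHom.map_closure]
    congr 1
    ext x
    constructor
    · rintro ⟨hx, y, hy, rfl⟩
      refine ⟨y, ⟨?_, hy⟩, rfl⟩
      have := hQ u⁻¹ _ hx
      simpa [mul_assoc] using this
    · rintro ⟨y, ⟨hy, hyV⟩, rfl⟩
      exact ⟨by simpa using hQ u y hy, y, hyV, rfl⟩
  have hNmap : ∀ (V : Subgroup M) (u : M), u ∈ H₁ →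
      Subgroup.normalizer ((V.map (MulAut.conj u).toMonoidHom : Subgroup M) : Set M) ≤ H₁ →
      Subgroup.normalizer (V : Set M) ≤ H₁ := by
    intro V u hu h x hx
    have h1 : u * x * u⁻¹ ∈ H₁ := h (by rw [normalizer_map_conj]; exact ⟨x, hx, rfl⟩)
    have h2 := mul_mem (mul_mem (inv_mem hu) h1) hu
    rwa [show u⁻¹ * (u * x * u⁻¹) * u = x by group] at h2
  set N : ℕ := Nat.card M + 1
  let S : Set (Subgroup M) := {U | T ≤ U ∧ U ≤ (P : Subgroup M) ∧ gen Q U = U ∧
    ¬ Subgroup.normalizer (U : Set M) ≤ H₁}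
  let w : Subgroup M → ℕ := fun U =>
    Nat.card U * N + Nat.card ((P : Subgroup M) ⊓ Subgroup.normalizer (U : Set M) : Subgroup M)
  have hTS : T ∈ S := by
    refine ⟨le_rfl, hTP, le_antisymm (gen_le Q T) fun x hx => mem_gen (hQT x hx) hx, fun h => hH₁ ?_⟩
    rwa [Subgroup.normalizer_eq_top T, top_le_iff] at h
  obtain ⟨U, ⟨hTU, hUP, hUgen, hUN⟩, hmax⟩ := Set.exists_max_image S w (Set.toFinite _) ⟨T, hTS⟩
  have hUp : IsPGroup p U := P.2.to_le hUP
  set N₁ := Subgroup.normalizer (U : Set M) with hN₁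
  have hlift : ∀ V : Subgroup M, T ≤ V → V ≤ (P : Subgroup M) → gen Q V = V → Nat.card U < Nat.card V →
      Subgroup.normalizer (V : Set M) ≤ H₁ := by
    intro V hTV hVP hVgen hlt
    by_contra hV
    have h1 := hmax V ⟨hTV, hVP, hVgen, hV⟩
    have h3 : Nat.card ((P : Subgroup M) ⊓ N₁ : Subgroup M) < N :=
      Nat.lt_succ_of_le (Subgroup.card_le_card_group _)
    have h4 : (Nat.card U + 1) * N ≤ Nat.card V * N := Nat.mul_le_mul_right N hlt
    have h5 : (Nat.card U + 1) * N = Nat.card U * N + N := by ring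
    simp only [w] at h1
    rw [← hN₁] at h1
    omega
  -- a subgroup of `H₁` bigger than `U` has its normalizer in `H₁`
  have hL1 : ∀ R₀ : Subgroup M, IsPGroup p R₀ → R₀ ≤ H₁ → U ≤ R₀ → ∀ a ∈ R₀, Q a → a ∉ U →
      Subgroup.normalizer (gen Q R₀ : Set M) ≤ H₁ := by
    intro R₀ hR₀ hR₀H hUR a haR hQa haU
    obtain ⟨R', hR', hle⟩ := exists_isSylowIn H₁ hR₀H hR₀
    obtain ⟨u, hu, he⟩ := hR'.conjugate hPsyl
    have hUg : U ≤ gen Q R₀ := hUgen ▸ gen_mono Q hUR
    refine hNmap _ u hu (hlift _ ?_ ?_ ?_ ?_)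
    · intro t ht
      rw [mem_map_conj]
      exact hUg (hTU (by simpa [mul_assoc] using ‹T.Normal›.conj_mem t ht u⁻¹))
    · rw [he]; exact Subgroup.map_mono ((gen_le Q R₀).trans hle)
    · rw [hgenmap, gen_gen]
    · rw [Subgroup.card_map_of_injective (MulAut.conj u).injective]
      exact Set.Finite.card_lt_card (Set.toFinite _)
        (lt_of_le_of_ne hUg fun e => haU ((SetLike.coe_injective e).symm ▸ mem_gen hQa haR))
  -- `p`-subgroups of `N₁` containing such a subgroup lie in `H₁`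
  have hL2 : ∀ R R₀ : Subgroup M, IsPGroup p R → R₀ ≤ R → R₀ ≤ H₁ → U ≤ R₀ → ∀ a ∈ R₀, Q a → a ∉ U →
      R ≤ H₁ ∧ Subgroup.normalizer (R : Set M) ≤ H₁ := by
    intro R R₀ hR hR₀R hR₀H hUR a haR hQa haU
    have h1 : Subgroup.normalizer ((R ⊓ H₁ : Subgroup M) : Set M) ≤ H₁ :=
      (normalizer_le_gen hQ _).trans (hL1 _ (hR.to_le inf_le_left) inf_le_right
        (hUR.trans (le_inf hR₀R hR₀H)) a ⟨hR₀R haR, hR₀H haR⟩ hQa haU)
    have hle : R ≤ H₁ := by
      by_contra hne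
      haveI := hR.isNilpotent
      have hlt : (R ⊓ H₁).subgroupOf R < ⊤ :=
        lt_top_iff_ne_top.2 fun e => hne fun x hx => (Subgroup.subgroupOf_eq_top.1 e hx).2
      obtain ⟨⟨g, hgR⟩, hg, hgH⟩ := SetLike.exists_of_lt
        (Group.normalizerCondition_of_isNilpotent _ hlt)
      refine hgH (Subgroup.mem_subgroupOf.2 ⟨hgR, h1 (Subgroup.mem_normalizer_fintype fun n hn => ?_)⟩)
      exact (Subgroup.mem_normalizer_iff.1 hg ⟨n, hn.1⟩).1 hn
    exact ⟨hle, by rwa [inf_eq_left.2 hle] at h1⟩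
  -- an element of `Q` in `N_P(U)` outside `U`
  have hexU : ∃ x ∈ (P : Subgroup M), Q x ∧ x ∉ U := by
    by_contra h
    push Not at h
    have e : gen Q (P : Subgroup M) = U :=
      le_antisymm ((Subgroup.closure_le _).2 fun x hx => h x hx.2 hx.1) (hUgen ▸ gen_mono Q hUP)
    have hPN : (P : Subgroup M) ≤ N₁ := by
      rw [hN₁, ← e]
      exact Subgroup.le_normalizer.trans (normalizer_le_gen hQ _)
    have hUn : U.Normal := Subgroup.normalizer_eq_top_iff.1 (by_contra fun hne => hUN (hover _ hPN hne))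
    obtain ⟨a, haP, hQa, haT⟩ := hex
    exact haT (hcore U hUn hTU hUp ▸ h a haP hQa)
  obtain ⟨a, haP, hQa, haU, haN⟩ := exists_mem_normalizer hQ P.2 hUP hUgen hexU
  set P' := (P : Subgroup M) ⊓ N₁ with hP'
  have hP'H : P' ≤ H₁ := inf_le_left.trans hPH
  have hUP' : U ≤ P' := le_inf hUP Subgroup.le_normalizer
  have hP'p : IsPGroup p P' := P.2.to_le inf_le_left
  have hP'syl : IsSylowIn p P' N₁ := by
    refine ⟨inf_le_right, hP'p, fun R hRN hR hle => le_antisymm ?_ hle⟩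
    by_contra hne
    have hRH := (hL2 R P' hR hle hP'H hUP' a ⟨haP, haN⟩ hQa haU).1
    obtain ⟨R', hR', hle'⟩ := exists_isSylowIn H₁ hRH hR
    obtain ⟨u, hu, he⟩ := hR'.conjugate hPsyl
    set U' := U.map (MulAut.conj u).toMonoidHom with hU'
    have hU'S : U' ∈ S := by
      refine ⟨fun t ht => ?_, ?_, by rw [hgenmap, hUgen], fun hN' => hUN (hNmap U u hu hN')⟩
      · rw [mem_map_conj]
        exact hTU (by simpa [mul_assoc] using ‹T.Normal›.conj_mem t ht u⁻¹)
      · rw [he]; exact Subgroup.map_mono ((hUP'.trans hle).trans hle')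
    have h1 := hmax U' hU'S
    have h2 : R.map (MulAut.conj u).toMonoidHom ≤ (P : Subgroup M) ⊓ Subgroup.normalizer (U' : Set M) :=
      le_inf (by rw [he]; exact Subgroup.map_mono hle') (by rw [normalizer_map_conj]; exact Subgroup.map_mono hRN)
    have h3 := Subgroup.card_le_of_le h2
    have h4 : Nat.card P' < Nat.card R :=
      Set.Finite.card_lt_card (Set.toFinite _) (lt_of_le_of_ne hle fun e => hne e.ge)
    rw [Subgroup.card_map_of_injective (MulAut.conj u).injective] at h3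
    have hcU : Nat.card U' = Nat.card U := Subgroup.card_map_of_injective (MulAut.conj u).injective
    simp only [w] at h1
    rw [hcU, ← hN₁, ← hP'] at h1
    omega
  obtain ⟨b, ⟨g, hg, hgb⟩, hbH⟩ : ∃ b, (∃ g ∈ N₁, g * a * g⁻¹ = b) ∧ b ∉ H₁ := by
    by_contra h
    push Not at h
    set K := Subgroup.closure {x : M | ∃ g ∈ N₁, g * a * g⁻¹ = x} ⊔ U with hK
    have hKH : K ≤ H₁ := sup_le ((Subgroup.closure_le _).2 fun x ⟨g, hg, he⟩ => h x ⟨g, hg, he⟩)
      (hUP.trans hPH)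
    have hKN : K ≤ N₁ := sup_le ((Subgroup.closure_le _).2 fun x ⟨g, hg, he⟩ =>
      he ▸ mul_mem (mul_mem hg haN) (inv_mem hg)) Subgroup.le_normalizer
    have hNK : N₁ ≤ Subgroup.normalizer (K : Set M) := fun n hn => by
      refine map_conj_eq_iff.1 ?_
      rw [hK, Subgroup.map_sup, map_conj_eq_iff.2 (show n ∈ Subgroup.normalizer (U : Set M) from hn),
        MonoidHom.map_closure]
      congr 2
      ext x
      constructor
      · rintro ⟨_, ⟨g, hg, rfl⟩, rfl⟩
        exact ⟨n * g, mul_mem hn hg, by simp [mul_assoc]⟩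
      · rintro ⟨g, hg, rfl⟩
        exact ⟨_, ⟨n⁻¹ * g, mul_mem (inv_mem hn) hg, rfl⟩, by simp [mul_assoc]⟩
    obtain ⟨R, hR, hleR⟩ := exists_isSylowIn K (inf_le_left : K ⊓ P' ≤ K) (hP'p.to_le inf_le_right)
    obtain ⟨R', hR', hle'⟩ := exists_isSylowIn N₁ (hR.1.trans hKN) hR.2.1
    obtain ⟨v, hv, hve⟩ := hR'.conjugate hP'syl
    have hRv : R.map (MulAut.conj v).toMonoidHom ≤ K ⊓ P' := le_inf
      (by rw [← map_conj_eq_iff.2 (hNK hv)]; exact Subgroup.map_mono hR.1)
      (by rw [hve]; exact Subgroup.map_mono hle')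
    have hReq : R = K ⊓ P' := (Subgroup.eq_of_le_of_card_ge hleR (by
      have := Subgroup.card_le_of_le hRv
      rwa [Subgroup.card_map_of_injective (MulAut.conj v).injective] at this)).symm
    have haR : a ∈ K ⊓ P' :=
      ⟨Subgroup.mem_sup_left (Subgroup.subset_closure ⟨1, one_mem _, by group⟩), haP, haN⟩
    have hNR : Subgroup.normalizer ((K ⊓ P' : Subgroup M) : Set M) ≤ H₁ :=
      (normalizer_le_gen hQ _).trans (hL1 _ (hP'p.to_le inf_le_right) (inf_le_left.trans hKH)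
        (le_inf le_sup_right hUP') a haR hQa haU)
    refine hUN fun n hn => ?_
    obtain ⟨l, hl, m, hm, rfl⟩ := frattini_argument (hReq ▸ hR) hNK hKN hn
    exact mul_mem (hKH hl) (hNR (Subgroup.mem_inf.1 hm).2)
  refine ⟨a, b, haP, hQa, hgb ▸ hQ g a hQa, fun h => haU (hTU h), hbH, fun R hRL hR haR => ?_⟩
  have hLN : Subgroup.closure ({a, b} : Set M) ≤ N₁ := (Subgroup.closure_le _).2 (by
    rintro x (rfl | rfl)
    · exact haN
    · exact hgb ▸ mul_mem (mul_mem hg haN) (inv_mem hg))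
  have h0 : U ⊔ Subgroup.zpowers a ≤ P' := sup_le hUP' (Subgroup.zpowers_le.2 ⟨haP, haN⟩)
  have h2 := hL2 (U ⊔ R) (U ⊔ Subgroup.zpowers a) (hUp.to_sup_of_normal_left' hR (hRL.trans hLN))
    (sup_le_sup_left (Subgroup.zpowers_le.2 haR) U) (h0.trans hP'H) le_sup_left a
    (Subgroup.mem_sup_right (Subgroup.mem_zpowers a)) hQa haU
  refine ⟨le_sup_right.trans h2.1, fun x hx => h2.2 ?_⟩
  rw [← map_conj_eq_iff, Subgroup.map_sup, map_conj_eq_iff.2 (hLN hx.1), map_conj_eq_iff.2 hx.2]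

end CfsgLib.LocalEven.AutomizerControl
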