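import Cfsg.Agent.Lib.LocalEven.AutomizerControl.Setup

/-!
The minimal configuration with uncontrolled fusion and its quadratic element.
-/

set_option autoImplicit false
set_option linter.unusedSectionVars false

namespace CfsgLib.LocalEven.AutomizerControl

open CfsgLib.LocalEven.SylowIn CfsgLib.Fusion.ZJGeneral Cfsg
open scoped commutatorElement

variable {G : Type*} [Group G] [Finite G] {p : ℕ} [Fact p.Prime] {S : Sylow p G}
  {W₀ : Subgroup G} [W₀.Normal] {z : G}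

theorem Z_congr {m : ℕ} {U V : Subgroup G} (h : J m U = J m V) : Z m U = Z m V := by
  ext x
  show (x ∈ J m U ∧ x ∈ Subgroup.centralizer (J m U : Set G) ∧ x ^ m = 1) ↔
    (x ∈ J m V ∧ x ∈ Subgroup.centralizer (J m V : Set G) ∧ x ^ m = 1)
  rw [h]

theorem IsSetup.comm_bar (hs : IsSetup p S W₀ z) {s : G} (h : s ∈ (S : Subgroup G)) :
    QuotientGroup.mk' W₀ s * QuotientGroup.mk' W₀ z = QuotientGroup.mk' W₀ z * QuotientGroup.mk' W₀ s := by
  rw [← commutatorElement_eq_one_iff_mul_comm, ← map_commutatorElement]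
  exact (QuotientGroup.eq_one_iff _).2 (mem_stab.1 (hs.le_stab h))

/-- The data of a minimal configuration. -/
structure IsConfig (S : Sylow p G) (W₀ : Subgroup G) [W₀.Normal] (z : G) (M P : Subgroup G) : Prop where
  syl : IsSylowIn p P M
  le_S : P ≤ (S : Subgroup G)
  W₀_le : W₀ ≤ pCoreOf p M
  z_mem : z ∈ pCoreOf p M
  bad : ∃ m ∈ M, ¬ Good S W₀ z m
  min : ∀ K ≤ M, P ≤ K → K ≠ M → ∀ k ∈ K, Good S W₀ z k
  not_J_le : P ≠ (S : Subgroup G) →
    ¬ J (Nat.card (G ⧸ W₀)) (P.map (QuotientGroup.mk' W₀)) ≤ (pCoreOf p M).map (QuotientGroup.mk' W₀)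

theorem IsSetup.exists_config (hs : IsSetup p S W₀ z)
    (hbad : ¬ ControlsIn (zjN (S : Subgroup G)) (S : Subgroup G) ⊤) :
    ∃ M P : Subgroup G, IsConfig S W₀ z M P := by
  obtain ⟨T₀, hW₀, hz₀, hT₀S, hT₀ne, hT₀syl, hbig, hbad₀⟩ := hs.exists_start hbad
  set N := fun U : Subgroup G => (S : Subgroup G) ⊓ Subgroup.normalizer (U : Set G) with hN
  let Conf : Set (Subgroup G) := {U | W₀ ≤ U ∧ z ∈ U ∧ U ≤ (S : Subgroup G) ∧
    IsSylowIn p (N U) (Subgroup.normalizer (U : Set G)) ∧ Nat.card T₀ < Nat.card (N U) ∧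
    ∃ n ∈ Subgroup.normalizer (U : Set G), ¬ Good S W₀ z n}
  have hT₀C : T₀ ∈ Conf := ⟨hW₀, hz₀, hT₀S, hT₀syl,
    Set.Finite.card_lt_card (Set.toFinite _) (lt_inf_normalizer S.2 hT₀S hT₀ne), hbad₀⟩
  obtain ⟨U, ⟨hWU, hzU, hUS, hUsyl, hUlt, hUbad⟩, hUmax⟩ :=
    Set.exists_max_image Conf (fun U => Nat.card (N U)) (Set.toFinite _) ⟨T₀, hT₀C⟩
  set P := N U with hP
  let Ms : Set (Subgroup G) := {K | K ≤ Subgroup.normalizer (U : Set G) ∧ P ≤ K ∧ ∃ k ∈ K, ¬ Good S W₀ z k}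
  obtain ⟨M, ⟨hMN, hPM, hMbad⟩, hMmin⟩ := Set.exists_min_image Ms (fun K => Nat.card K) (Set.toFinite _)
    ⟨_, le_rfl, hUsyl.1, hUbad⟩
  have hPsyl : IsSylowIn p P M := ⟨hPM, hUsyl.2.1, fun R hR hRp hle => hUsyl.2.2 R (hR.trans hMN) hRp hle⟩
  set T := pCoreOf p M with hT
  have hUP : U ≤ P := le_inf hUS Subgroup.le_normalizer
  have hUT : U ≤ T := le_pCoreOf (hUP.trans hPM) hMN (S.2.to_le hUS)
  have hTP : T ≤ P := pCoreOf_le_sylowIn hPsyl
  refine ⟨M, P, hPsyl, inf_le_left, hWU.trans hUT, hUT hzU, hMbad, fun K hK hPK hne k hk => ?_, fun hPS hJ => ?_⟩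
  · by_contra hb
    exact hne (Subgroup.eq_of_le_of_card_ge hK (hMmin K ⟨hK.trans hMN, hPK, k, hk, hb⟩))
  set π := QuotientGroup.mk' W₀ with hπ
  set q := Nat.card (G ⧸ W₀)
  set Jb := J q (P.map π) with hJb
  set U' := Jb.comap π with hU'
  have hWP : W₀ ≤ P := hWU.trans hUP
  have hU'T : U' ≤ T := by
    rw [hU', show T = (T.map π).comap π by
      rw [Subgroup.comap_map_eq, QuotientGroup.ker_mk', sup_eq_left.2 (hWU.trans hUT)]]
    exact Subgroup.comap_mono hJ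
  have hU'P : U' ≤ P := hU'T.trans hTP
  have hnorm : ∀ R : Subgroup G, R ≤ Subgroup.normalizer (U' : Set G) ↔
      R.map π ≤ Subgroup.normalizer (Jb : Set (G ⧸ W₀)) := fun R => by
    rw [hU', ← Subgroup.comap_normalizer_eq_of_surjective _ (QuotientGroup.mk'_surjective W₀),
      Subgroup.map_le_iff_le_comap]
  have hMU' : M ≤ Subgroup.normalizer (U' : Set G) := by
    rw [hnorm, hJb, ← J_eq_of_le (Subgroup.map_mono hTP) hJ]
    refine le_trans ?_ (normalizer_le_normalizer_J _)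
    exact (Subgroup.map_mono (normalizer_pCoreOf M)).trans (Subgroup.le_normalizer_map π)
  have hNP : (S : Subgroup G) ⊓ Subgroup.normalizer (P : Set G) ≤ Subgroup.normalizer (U' : Set G) := by
    rw [hnorm, hJb]
    refine le_trans ?_ (normalizer_le_normalizer_J _)
    exact (Subgroup.map_mono inf_le_right).trans (Subgroup.le_normalizer_map π)
  have hlt : Nat.card P < Nat.card (N U') := lt_of_lt_of_le
    (Set.Finite.card_lt_card (Set.toFinite _) (lt_inf_normalizer S.2 inf_le_left hPS))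
    (Subgroup.card_le_of_le (le_inf inf_le_left hNP))
  obtain ⟨Q, hQ, hleQ⟩ := exists_isSylowIn (Subgroup.normalizer (U' : Set G))
    (inf_le_right : N U' ≤ _) (S.2.to_le inf_le_left)
  obtain ⟨R, hQR⟩ := hQ.2.1.exists_le_sylow
  obtain ⟨y, hy⟩ := MulAction.exists_smul_eq G R S
  have hyQ : Q.map (MulAut.conj y).toMonoidHom ≤ (S : Subgroup G) := by
    rw [← hy, Sylow.coe_subgroup_smul]
    exact Subgroup.map_mono hQR
  obtain ⟨x, hx, hxy⟩ := hbig (N U') inf_le_left (hUlt.trans hlt) y fun a ha => hyQ ⟨a, hleQ ha, rfl⟩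
  set U'' := U'.map (MulAut.conj y).toMonoidHom with hU''
  have hU'N : U' ≤ N U' := le_inf (hU'P.trans inf_le_left) Subgroup.le_normalizer
  have hU''S : U'' ≤ (S : Subgroup G) := (Subgroup.map_mono (hU'N.trans hleQ)).trans hyQ
  have hQ'' := hQ.map_conj y
  rw [← normalizer_map_conj, ← hU''] at hQ''
  have hsyl'' : IsSylowIn p (N U'') (Subgroup.normalizer (U'' : Set G)) := by
    have := hQ''.2.2 _ inf_le_right (S.2.to_le inf_le_left) (le_inf hyQ hQ''.1)
    show IsSylowIn p ((S : Subgroup G) ⊓ Subgroup.normalizer (U'' : Set G)) _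
    rwa [this]
  have hcard : Nat.card (N U') ≤ Nat.card (N U'') := by
    rw [← Subgroup.card_map_of_injective (f := (MulAut.conj y).toMonoidHom) (MulAut.conj y).injective]
    exact Subgroup.card_le_of_le ((Subgroup.map_mono hleQ).trans (le_inf hyQ hQ''.1))
  have hmemJ : ∀ {v : G}, v ∈ P → (∀ s ∈ P, π s * π v = π v * π s) → v ∈ U' := by
    intro v hv hc
    obtain ⟨A, hA⟩ := exists_isMaxA (m := q) (P.map π)
    exact Subgroup.mem_comap.2 (le_J hA (mem_of_commute hA (Subgroup.mem_map_of_mem π hv) pow_card_eq_one'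
      fun a ha => by obtain ⟨s, hs', rfl⟩ := hA.1 ha; exact hc s hs'))
  have hzU' : z ∈ U' := hmemJ (hUP hzU) fun s hs' => hs.comm_bar (Subgroup.mem_inf.1 hs').1
  -- the conjugate of `z`
  set z₁ := x⁻¹ * z * x with hz₁
  have hz₁W : z₁ ∈ zj (S : Subgroup G) := by
    have := conj_mem_of_mem_normalizer (inv_mem hx) hs.mem
    rwa [inv_inv] at this
  have hxP : ∀ s ∈ P, x * s * x⁻¹ ∈ (S : Subgroup G) := fun s hs' => by
    have h1 : s ∈ N U' := le_inf inf_le_left ((hPM.trans hMU')) hs'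
    rw [← hxy s h1]
    exact hyQ ⟨s, hleQ h1, rfl⟩
  have hz₁c : ∀ s ∈ P, π s * π z₁ = π z₁ * π s := fun s hs' => by
    have h1 := hs.comm_bar (hxP s hs')
    rw [← hπ, map_mul, map_mul, map_inv] at h1
    rw [hz₁, map_mul, map_mul, map_inv]
    calc π s * ((π x)⁻¹ * π z * π x) = (π x)⁻¹ * (π x * π s * (π x)⁻¹ * π z) * π x := by group
      _ = _ := by rw [h1]; group
  have hz₁P : z₁ ∈ P := by
    refine Subgroup.mem_inf.2 ⟨Z_le _ hz₁W, Subgroup.mem_normalizer_fintype fun u hu => ?_⟩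
    have e : ⁅z₁, u⁆ ∈ W₀ := by
      rw [← QuotientGroup.eq_one_iff]
      show π ⁅z₁, u⁆ = 1
      rw [map_commutatorElement, commutatorElement_eq_one_iff_mul_comm]
      exact (hz₁c u (hUP hu)).symm
    rw [show z₁ * u * z₁⁻¹ = ⁅z₁, u⁆ * u by rw [commutatorElement_def]; group]
    exact mul_mem (hWU e) hu
  have hz'' : z ∈ U'' := by
    have h1 := hmemJ hz₁P hz₁c
    refine ⟨z₁, h1, ?_⟩
    show y * z₁ * y⁻¹ = z
    rw [hxy z₁ (hU'N h1), hz₁]; group
  have hW'' : W₀ ≤ U'' := by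
    intro w hw
    rw [mem_map_conj]
    refine Subgroup.mem_comap.2 ?_
    rw [(QuotientGroup.eq_one_iff (N := W₀) (y⁻¹ * w * y)).2
      (by simpa [mul_assoc] using ‹W₀.Normal›.conj_mem w hw y⁻¹) |> fun h => (h : π (y⁻¹ * w * y) = 1)]
    exact one_mem _
  obtain ⟨n, hn, hnbad⟩ := hMbad
  refine not_le.2 (hlt.trans_le hcard) (hUmax U'' ⟨hW'', hz'', hU''S, hsyl'', ?_, y * n * y⁻¹, ?_, fun hgood => hnbad ?_⟩)
  · exact (hUlt.trans hlt).trans_le hcard
  · rw [hU'', normalizer_map_conj]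
    exact ⟨n, hMU' hn, rfl⟩
  have hn' : y * n * y⁻¹ ∈ Subgroup.normalizer (U'' : Set G) := by
    rw [hU'', normalizer_map_conj]; exact ⟨n, hMU' hn, rfl⟩
  obtain ⟨x', hx', hxe⟩ := hs.agree_of_good_normalizer hU''S hn' hgood
  refine good_of_agree hzU' ⟨x⁻¹ * x' * x, mul_mem (mul_mem (inv_mem hx) hx') hx, fun a ha => ?_⟩
  have h1 := hxy (n * a * n⁻¹) (hU'N (conj_mem_of_mem_normalizer (hMU' hn) ha))
  have h2 := hxy a (hU'N ha)
  have h3 := hxe (y * a * y⁻¹) ⟨a, ha, rfl⟩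
  calc n * a * n⁻¹ = x⁻¹ * (x * (n * a * n⁻¹) * x⁻¹) * x := by group
    _ = x⁻¹ * (y * n * y⁻¹ * (y * a * y⁻¹) * (y * n * y⁻¹)⁻¹) * x := by rw [← h1]; group
    _ = _ := by rw [h3, h2]; group

/-- The conjugates of `z` with `W₀`. -/
def zClosure (W₀ : Subgroup G) (z : G) (M : Subgroup G) : Subgroup G :=
  Subgroup.closure {x | ∃ m ∈ M, m * z * m⁻¹ = x} ⊔ W₀

variable {M P : Subgroup G}

theorem IsConfig.core_le (hc : IsConfig S W₀ z M P) : pCoreOf p M ≤ P := pCoreOf_le_sylowIn hc.syl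

theorem IsConfig.zClosure_le (hc : IsConfig S W₀ z M P) : zClosure W₀ z M ≤ pCoreOf p M :=
  sup_le ((Subgroup.closure_le _).2 fun _ ⟨_, hm, he⟩ =>
    he ▸ conj_mem_of_mem_normalizer (normalizer_pCoreOf M hm) hc.z_mem) hc.W₀_le

theorem le_normalizer_zClosure : M ≤ Subgroup.normalizer (zClosure W₀ z M : Set G) :=
  le_normalizer_of_map_conj fun n hn => by
    rw [zClosure, Subgroup.map_sup, map_conj_eq_iff.2 (show n ∈ Subgroup.normalizer (W₀ : Set G) by
      rw [Subgroup.normalizer_eq_top]; trivial), MonoidHom.map_closure]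
    congr 2
    ext x
    constructor
    · rintro ⟨_, ⟨g, hg, rfl⟩, rfl⟩
      exact ⟨n * g, mul_mem hn hg, by simp [mul_assoc]⟩
    · rintro ⟨g, hg, rfl⟩
      exact ⟨_, ⟨n⁻¹ * g, mul_mem (inv_mem hn) hg, rfl⟩, by simp [mul_assoc]⟩

theorem mem_zClosure : z ∈ zClosure W₀ z M :=
  Subgroup.mem_sup_left (Subgroup.subset_closure ⟨1, one_mem _, by group⟩)

theorem IsConfig.map_zClosure_le (hs : IsSetup p S W₀ z) (hc : IsConfig S W₀ z M P) :
    (zClosure W₀ z M).map (QuotientGroup.mk' W₀) ≤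
      Subgroup.centralizer (((pCoreOf p M).map (QuotientGroup.mk' W₀) : Subgroup (G ⧸ W₀)) : Set (G ⧸ W₀)) := by
  rw [Subgroup.map_le_iff_le_comap]
  refine sup_le ((Subgroup.closure_le _).2 ?_) fun w hw => ?_
  · rintro _ ⟨m, hm, rfl⟩
    refine Subgroup.mem_comap.2 (Subgroup.mem_centralizer_iff.2 ?_)
    rintro _ ⟨t, ht, rfl⟩
    have h0 : m⁻¹ * t * m ∈ pCoreOf p M := by
      have := conj_mem_of_mem_normalizer (normalizer_pCoreOf M (inv_mem hm)) ht
      rwa [inv_inv] at this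
    have h1 := hs.comm_bar (hc.le_S (hc.core_le h0))
    set π := QuotientGroup.mk' W₀
    rw [map_mul, map_mul, map_inv] at h1
    rw [map_mul, map_mul, map_inv]
    calc π t * (π m * π z * (π m)⁻¹) = π m * ((π m)⁻¹ * π t * π m * π z) * (π m)⁻¹ := by group
      _ = _ := by rw [h1]; group
  · rw [Subgroup.mem_comap, (QuotientGroup.eq_one_iff (N := W₀) w).2 hw |> fun h => (h : QuotientGroup.mk' W₀ w = 1)]
    exact one_mem _

theorem IsConfig.comm_zClosure (hs : IsSetup p S W₀ z) (hc : IsConfig S W₀ z M P) {b t : G}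
    (hb : b ∈ zClosure W₀ z M) (ht : t ∈ pCoreOf p M) :
    QuotientGroup.mk' W₀ t * QuotientGroup.mk' W₀ b = QuotientGroup.mk' W₀ b * QuotientGroup.mk' W₀ t :=
  Subgroup.mem_centralizer_iff.1 (hc.map_zClosure_le hs ⟨b, hb, rfl⟩) _ ⟨t, ht, rfl⟩

theorem IsConfig.pow_zClosure (hs : IsSetup p S W₀ z) (hc : IsConfig S W₀ z M P) {b : G}
    (hb : b ∈ zClosure W₀ z M) : (QuotientGroup.mk' W₀ b) ^ p = 1 := by
  have hW : ∀ w ∈ W₀, (QuotientGroup.mk' W₀ w) ^ p = 1 := fun w hw => by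
    rw [(QuotientGroup.eq_one_iff (N := W₀) w).2 hw |> fun h => (h : QuotientGroup.mk' W₀ w = 1), one_pow]
  let K : Subgroup G :=
    { carrier := {b | b ∈ zClosure W₀ z M ∧ (QuotientGroup.mk' W₀ b) ^ p = 1}
      one_mem' := ⟨one_mem _, by simp⟩
      mul_mem' := fun {a b} ha hb => ⟨mul_mem ha.1 hb.1, by
        rw [map_mul, (show Commute (QuotientGroup.mk' W₀ a) (QuotientGroup.mk' W₀ b) from
          hc.comm_zClosure hs hb.1 (hc.zClosure_le ha.1)).mul_pow, ha.2, hb.2, one_mul]⟩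
      inv_mem' := fun {a} ha => ⟨inv_mem ha.1, by rw [map_inv, inv_pow, ha.2, inv_one]⟩ }
  have hle : zClosure W₀ z M ≤ K := by
    refine sup_le ((Subgroup.closure_le _).2 ?_) fun w hw => ⟨Subgroup.mem_sup_right hw, hW w hw⟩
    rintro _ ⟨m, hm, rfl⟩
    refine ⟨Subgroup.mem_sup_left (Subgroup.subset_closure ⟨m, hm, rfl⟩), ?_⟩
    rw [← map_pow, conj_pow]
    exact (QuotientGroup.eq_one_iff _).2 (‹W₀.Normal›.conj_mem _ hs.pow_prime_mem m)
  exact (hle hb).2

theorem IsConfig.exists_quad (hp : p ≠ 2) (hs : IsSetup p S W₀ z) (hc : IsConfig S W₀ z M P) :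
    ∃ a ∈ P, a ∉ pCoreOf p M ∧ ∀ b ∈ zClosure W₀ z M,
      Commute (QuotientGroup.mk' W₀ a) (QuotientGroup.mk' W₀ (a * b * a⁻¹ * b⁻¹)) := by
  set B := zClosure W₀ z M with hB
  set T := pCoreOf p M with hT
  set π := QuotientGroup.mk' W₀ with hπ
  have hBP : B ≤ P := hc.zClosure_le.trans hc.core_le
  have hPB : P ≤ Subgroup.normalizer (B : Set G) := hc.syl.1.trans le_normalizer_zClosure
  -- an element of an abelian subgroup normalized by `b`
  have hquad : ∀ {G' : Type _} [Group G'] (A : Subgroup G') [IsMulCommutative A] (u v : G'), u ∈ A →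
      v * u * v⁻¹ ∈ A → Commute u (u * v * u⁻¹ * v⁻¹) := by
    intro G' _ A _ u v hu hv
    have h1 : u * v * u⁻¹ * v⁻¹ ∈ A := by
      rw [show u * v * u⁻¹ * v⁻¹ = u * (v * u * v⁻¹)⁻¹ by group]; exact mul_mem hu (inv_mem hv)
    exact congrArg Subtype.val (mul_comm' (⟨u, hu⟩ : A) ⟨_, h1⟩)
  by_cases hPS : P = (S : Subgroup G)
  · subst hPS
    by_cases hWT : zj (S : Subgroup G) ≤ T
    swap
    · obtain ⟨a, haW, haT⟩ := SetLike.not_le_iff_exists.1 hWT
      refine ⟨a, Z_le _ haW, haT, fun b hb => Commute.map (zj_comm haW ?_) π⟩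
      have h1 : b * a⁻¹ * b⁻¹ ∈ zj (S : Subgroup G) :=
        conj_mem_of_mem_normalizer (le_zjN _ (hBP hb)) (inv_mem haW)
      rw [show a * b * a⁻¹ * b⁻¹ = a * (b * a⁻¹ * b⁻¹) by group]
      exact mul_mem haW h1
    have hcomm' : ∀ u : ↥(S : Subgroup G), (u : G) ∈ B → ∀ v : ↥(S : Subgroup G), (v : G) ∈ B →
        ((⁅u, v⁆ : ↥(S : Subgroup G)) : G) ∈ W₀ := by
      intro u hu v hv
      rw [← QuotientGroup.eq_one_iff]
      show π ⁅(u : G), (v : G)⁆ = 1
      rw [map_commutatorElement, commutatorElement_eq_one_iff_mul_comm]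
      exact hc.comm_zClosure hs hv (hc.zClosure_le hu)
    haveI : (B.subgroupOf (S : Subgroup G)).Normal := Subgroup.normal_subgroupOf_of_le_normalizer hPB
    have hmemA : ∀ {A : Subgroup ↥(S : Subgroup G)}, A ∈ Cfsg.maxAbelianSubgroups ↥(S : Subgroup G) →
        ∀ u : ↥(S : Subgroup G), (u : G) ∈ zj (S : Subgroup G) → u ∈ A := fun {A} hA u hu => by
      obtain ⟨v, hv, hve⟩ := Z_le_max (isMaxA_of_mem hA) hu
      rwa [← show v = u from Subtype.ext hve]
    have hin : ∀ A ∈ Cfsg.maxAbelianSubgroups ↥(S : Subgroup G), A ≤ T.subgroupOf (S : Subgroup G) →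
        B.subgroupOf (S : Subgroup G) ≤ A := by
      intro A hA hAT
      have hA' := isMaxA_of_mem hA
      set A' := A.map (S : Subgroup G).subtype with hA'def
      have hA'T : A' ≤ T := by rintro _ ⟨u, hu, rfl⟩; exact hAT hu
      have hle : B ≤ A' := by
        refine sup_le ((Subgroup.closure_le _).2 ?_) (hs.le_zj.trans (Z_le_max hA'))
        rintro _ ⟨m, hm, rfl⟩
        have hA'' : IsMaxA (Nat.card G) (S : Subgroup G) (A'.map (MulAut.conj m⁻¹).toMonoidHom) := by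
          refine ⟨(Subgroup.map_mono hA'T).trans ((map_conj_eq_iff.2 (normalizer_pCoreOf M (inv_mem hm))).le.trans
            hc.core_le), abExp_map _ hA'.2.1, fun C hC hC' => ?_⟩
          rw [Subgroup.card_map_of_injective (MulAut.conj m⁻¹).injective]
          exact hA'.2.2 C hC hC'
        have h1 := mem_map_conj.1 (Z_le_max hA'' hs.mem)
        rwa [inv_inv] at h1
      intro u hu
      obtain ⟨v, hv, hve⟩ := hle (show (u : G) ∈ B from hu)
      rwa [← show v = u from Subtype.ext hve]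
    have hout : ¬ Cfsg.thompsonSubgroupA ↥(S : Subgroup G) ≤ T.subgroupOf (S : Subgroup G) := by
      intro hJ
      have hJ' : J (Nat.card G) (S : Subgroup G) ≤ T := by
        rw [← Fusion.ZJBridge.thompsonAOf_eq_J (fun _ _ => pow_card_eq_one')]
        rintro _ ⟨u, hu, rfl⟩
        exact hJ hu
      obtain ⟨m, hm, hb⟩ := hc.bad
      refine hb ⟨m, ?_, by simp [one_mem]⟩
      have := normalizer_le_normalizer_Z (m := Nat.card G) T (normalizer_pCoreOf M hm)
      rwa [Z_congr (J_eq_of_le hc.core_le hJ')] at this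
    obtain ⟨A, hA, hAT, hnorm⟩ := exists_normalized hp S.2 (B.subgroupOf (S : Subgroup G))
      (T.subgroupOf (S : Subgroup G))
      (fun A hA => Subgroup.commutator_le.2 fun u hu v hv => hmemA hA _ (hs.le_zj (hcomm' _ hu _ hv))) hin hout
    obtain ⟨a, haA, haT⟩ := SetLike.not_le_iff_exists.1 hAT
    refine ⟨a, a.2, haT, fun b hb => Commute.map ?_ π⟩
    haveI := hA.1
    exact (hquad A a ⟨b, hBP hb⟩ haA
      (conj_mem_of_mem_normalizer (hnorm (show (⟨b, hBP hb⟩ : ↥(S : Subgroup G)) ∈ B.subgroupOf _ from hb)) haA)).map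
        (S : Subgroup G).subtype
  · set Pb := P.map π with hPb
    set Bb := B.map π with hBb
    haveI : (Bb.subgroupOf Pb).Normal := Subgroup.normal_subgroupOf_of_le_normalizer
      ((Subgroup.map_mono hPB).trans (Subgroup.le_normalizer_map π))
    have hcomm : ∀ b ∈ Bb, ∀ t ∈ T.map π, t * b = b * t := by
      rintro _ ⟨b, hb, rfl⟩ _ ⟨t, ht, rfl⟩
      exact hc.comm_zClosure hs hb ht
    obtain ⟨A, hA, hAT, hnorm⟩ := exists_normalized hp (hc.syl.2.1.map π) (Bb.subgroupOf Pb)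
      ((T.map π).subgroupOf Pb) (fun A _ => Subgroup.commutator_le.2 fun u hu v hv => by
        rw [commutatorElement_eq_one_iff_mul_comm.2 (Subtype.ext (hcomm _ hv _
          (Subgroup.map_mono hc.zClosure_le hu)))]
        exact one_mem _)
      (fun A hA hAT u hu => by
        obtain ⟨v, hv, hve⟩ := mem_of_commute (isMaxA_of_mem hA) u.2 pow_card_eq_one' (by
          rintro _ ⟨w, hw, rfl⟩
          exact hcomm _ hu _ (hAT hw))
        rwa [← show v = u from Subtype.ext hve])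
      (fun hJ => hc.not_J_le hPS (by
        rw [← Fusion.ZJBridge.thompsonAOf_eq_J (fun _ _ => pow_card_eq_one')]
        rintro _ ⟨u, hu, rfl⟩
        exact hJ hu))
    obtain ⟨⟨_, a, haP, rfl⟩, haA, haT⟩ := SetLike.not_le_iff_exists.1 hAT
    refine ⟨a, haP, fun ha => haT ⟨a, ha, rfl⟩, fun b hb => ?_⟩
    haveI := hA.1
    let bb : Pb := ⟨π b, Subgroup.mem_map_of_mem π (hBP hb)⟩
    have h1 := (hquad A _ bb haA (conj_mem_of_mem_normalizer
      (hnorm (show bb ∈ Bb.subgroupOf Pb from Subgroup.mem_map_of_mem π hb)) haA)).map Pb.subtype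
    simpa [bb] using h1

end CfsgLib.LocalEven.AutomizerControl
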