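import Cfsg.Agent.Lib.Fusion.Dickson
import Cfsg.Agent.Lib.LocalEven.SylowIn

/-!
A group generated by two quadratic elements on a module with a vector fixed by a Sylow subgroup: an element of
order prime to `p` acting on a two-dimensional section as a generator of the torus of `SL(2, p)` and having
an eigenvector in a given submodule.
-/

set_option autoImplicit false
set_option linter.unusedSectionVars false
set_option linter.style.haveILetI false

namespace CfsgLib.LocalEven.AutomizerControl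

open Matrix CfsgLib.Perm.SL2Unipotent CfsgLib.Fusion.QuadSL2 CfsgLib.Fusion.QuadStable CfsgLib.LocalEven.SylowIn
open scoped MatrixGroups

universe u v

variable {p : ℕ} [Fact p.Prime]

section Rep

variable {L : Type u} [Group L] {Y : Type v} [AddCommGroup Y]

theorem inv_of_generators [Finite L] (ρ : L →* (AddMonoid.End Y)ˣ) (s : Set L) (hs : Subgroup.closure s = ⊤)
    (J : AddSubgroup Y) (hJ : ∀ x ∈ s, ∀ y ∈ J, (ρ x : AddMonoid.End Y) y ∈ J) (l : L) :
    ∀ y ∈ J, (ρ l : AddMonoid.End Y) y ∈ J := by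
  have hl : l ∈ Submonoid.closure s := by
    rw [← Subgroup.closure_toSubmonoid_of_finite, hs]; trivial
  induction hl using Submonoid.closure_induction with
  | mem x hx => exact hJ x hx
  | one => intro y hy; simpa using hy
  | mul x x' _ _ hx hx' => intro y hy; rw [map_mul]; exact hx _ (hx' y hy)

theorem exists_section_rep (ρ : L →* (AddMonoid.End Y)ˣ) (I N : AddSubgroup Y)
    (hI : ∀ l : L, ∀ y ∈ I, (ρ l : AddMonoid.End Y) y ∈ I)
    (hN : ∀ l : L, ∀ y ∈ N, (ρ l : AddMonoid.End Y) y ∈ N) :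
    ∃ ρ' : L →* (AddMonoid.End (↥I ⧸ N.addSubgroupOf I))ˣ, ∀ (l : L) (y : I),
      (ρ' l : AddMonoid.End (↥I ⧸ N.addSubgroupOf I)) (QuotientAddGroup.mk y) =
        QuotientAddGroup.mk ⟨(ρ l : AddMonoid.End Y) y, hI l y y.2⟩ := by
  let res : L → (I →+ I) := fun l => AddMonoidHom.mk' (fun y => ⟨(ρ l : AddMonoid.End Y) y, hI l y y.2⟩)
    (fun y y' => Subtype.ext (map_add _ _ _))
  let f : L →* AddMonoid.End (↥I ⧸ N.addSubgroupOf I) :=
    { toFun := fun l => QuotientAddGroup.map (N.addSubgroupOf I) (N.addSubgroupOf I) (res l)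
        (fun y hy => hN l y hy)
      map_one' := by
        refine AddMonoidHom.ext fun x => ?_
        induction x using QuotientAddGroup.induction_on with
        | H y =>
          show QuotientAddGroup.mk _ = QuotientAddGroup.mk y
          congr 1
          exact Subtype.ext (by show (ρ 1 : AddMonoid.End Y) y = y; rw [map_one]; rfl)
      map_mul' := fun l l' => by
        refine AddMonoidHom.ext fun x => ?_
        induction x using QuotientAddGroup.induction_on with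
        | H y =>
          show QuotientAddGroup.mk _ = QuotientAddGroup.mk _
          congr 1
          exact Subtype.ext (by
            show (ρ (l * l') : AddMonoid.End Y) y = (ρ l : AddMonoid.End Y) ((ρ l' : AddMonoid.End Y) y)
            rw [map_mul]; rfl) }
  exact ⟨f.toHomUnits, fun l y => rfl⟩

end Rep

section SL

variable {K : Type v} [Field K] [CharP K p]

omit [Fact p.Prime] [CharP K p] in
theorem upper_pow {g : SL(2, K)} (hg : g.1 1 0 = 0) (n : ℕ) :
    (g ^ n).1 0 0 = g.1 0 0 ^ n ∧ (g ^ n).1 1 0 = 0 ∧ (g ^ n).1 1 1 = g.1 1 1 ^ n := by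
  induction n with
  | zero => simp
  | succ n ih =>
    rw [pow_succ]
    simp only [Fusion.Dickson.sl_mul_apply, ih.1, ih.2.1, ih.2.2, hg]
    exact ⟨by ring, by ring, by ring⟩

omit [Fact p.Prime] [CharP K p] in
/-- An element normalizing a nontrivial transvection group is triangular. -/
theorem upper_of_conj_up {g : SL(2, K)} {r e : K} (hr : r ≠ 0) (he : e ≠ 0)
    (h : g * up r * g⁻¹ = up (e * r)) : g.1 1 0 = 0 ∧ g.1 0 0 = e * g.1 1 1 := by
  rw [mul_inv_eq_iff_eq_mul] at h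
  have h00 : (g * up r).1 0 0 = (up (e * r) * g).1 0 0 := by rw [h]
  have h01 : (g * up r).1 0 1 = (up (e * r) * g).1 0 1 := by rw [h]
  simp [Fusion.Dickson.sl_mul_apply, up_val] at h00 h01
  have h10 : g.1 1 0 = 0 := by simpa [he, hr] using h00
  refine ⟨h10, mul_right_cancel₀ hr ?_⟩
  linear_combination h01

omit [Fact p.Prime] [CharP K p] in
theorem eq_neg_one_of_sq {g : SL(2, K)} (h2 : (2 : K) ≠ 0) (hg : g * g = 1) (hne : g ≠ 1) :
    g.1 0 0 = -1 ∧ g.1 0 1 = 0 ∧ g.1 1 0 = 0 ∧ g.1 1 1 = -1 := by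
  have e : g = g⁻¹ := eq_inv_of_mul_eq_one_left hg
  have e00 : g.1 0 0 = g⁻¹.1 0 0 := by rw [← e]
  have e01 : g.1 0 1 = g⁻¹.1 0 1 := by rw [← e]
  have e10 : g.1 1 0 = g⁻¹.1 1 0 := by rw [← e]
  rw [Matrix.SpecialLinearGroup.coe_inv, Matrix.adjugate_fin_two] at e00 e01 e10
  simp at e00 e01 e10
  have h01 : g.1 0 1 = 0 := by
    have : (2 : K) * g.1 0 1 = 0 := by linear_combination e01
    simpa [h2] using this
  have h10 : g.1 1 0 = 0 := by
    have : (2 : K) * g.1 1 0 = 0 := by linear_combination e10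
    simpa [h2] using this
  have hd := Fusion.Dickson.sl_det g
  rw [h01, h10, ← e00, mul_zero, sub_zero, mul_self_eq_one_iff] at hd
  rcases hd with hd | hd
  · exact absurd (sl_ext (by simpa using hd) (by simpa using h01) (by simpa using h10)
      (by rw [← e00]; simpa using hd)) hne
  · exact ⟨hd, h01, h10, by rw [← e00]; exact hd⟩

/-- The torus of `SL(2, p)` inside a finite group mapping onto a subgroup of `SL₂` in normal form. -/
theorem exists_torus_normalizing [Finite K] (hp : p ≠ 2) {L : Type u} [Group L] [Finite L]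
    (φ : L →* SL(2, K)) {a b : L} {k : K} (hk : k ≠ 0) (ha : φ a = up k) (hb : φ b = low 1)
    (P : Sylow p L) (hP : ∀ x ∈ (P : Subgroup L), ∃ r, φ x = up r) (μ : ZMod p) (hμ : μ ≠ 0) :
    ∃ h ∈ Subgroup.normalizer ((P : Subgroup L) : Set L), (orderOf h).Coprime p ∧
      (φ h).1 1 0 = 0 ∧ (φ h).1 0 0 = ZMod.castHom (dvd_refl p) K μ ∧
      (φ h).1 1 1 = ZMod.castHom (dvd_refl p) K μ⁻¹ ∧
      ∃ c : K, (φ h).1 0 1 = c * (φ h).1 1 1 - c * (φ h).1 0 0 := by
  have hp' : p.Prime := Fact.out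
  set κ := ZMod.castHom (dvd_refl p) K with hκ
  have hκi : Function.Injective κ := κ.injective
  have h2 : (2 : K) ≠ 0 := Fusion.Dickson.two_ne hp
  obtain ⟨ψ, hψ, hψX⟩ := Fusion.Dickson.exists_slp hp (X := φ.range) hk ⟨a, ha⟩ ⟨b, hb⟩
  -- a transvection in the Sylow subgroup
  obtain ⟨l, hl⟩ : ψ (up 1) ∈ φ.range := hψX ⟨_, rfl⟩
  obtain ⟨i, m, hm, hlm⟩ := Nat.exists_eq_pow_mul_and_not_dvd (orderOf_pos l).ne' p hp'.one_lt.ne'
  have hl1 : φ (l ^ m) = ψ (up (m : ZMod p)) := by rw [map_pow, hl, ← map_pow, up_pow, mul_one]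
  have hlp : IsPGroup p (Subgroup.zpowers (l ^ m)) := by
    refine IsPGroup.of_card (n := i) ?_
    rw [Nat.card_zpowers, orderOf_pow_of_dvd (fun e => hm (by rw [e]; exact dvd_zero p))
      (hlm ▸ dvd_mul_left _ _), hlm,
      Nat.mul_div_cancel _ (Nat.pos_of_ne_zero fun e => hm (by rw [e]; exact dvd_zero p))]
  obtain ⟨Q, hQ⟩ := hlp.exists_le_sylow
  obtain ⟨g, hg⟩ := MulAction.exists_smul_eq L Q P
  have hgP : g * l ^ m * g⁻¹ ∈ (P : Subgroup L) := by
    rw [← hg, Sylow.coe_subgroup_smul]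
    exact ⟨_, hQ (Subgroup.mem_zpowers _), rfl⟩
  obtain ⟨r, hr⟩ := hP _ hgP
  have hconj : φ g * ψ (up (m : ZMod p)) * (φ g)⁻¹ = up r := by
    rw [← hl1, ← hr, map_mul, map_mul, map_inv]
  have hm0 : (m : ZMod p) ≠ 0 := fun e => hm ((ZMod.natCast_eq_zero_iff m p).1 e)
  have hr0 : r ≠ 0 := by
    intro e
    rw [e, up_zero, mul_inv_eq_one, mul_eq_left, map_eq_one_iff _ hψ] at hconj
    have := congrArg (fun t : SL(2, ZMod p) => t.1 0 1) hconj
    exact hm0 (by simpa [up_val] using this)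
  -- the torus element and the central involution
  let d : SL(2, ZMod p) := ⟨!![μ, 0; 0, μ⁻¹], by simp [Matrix.det_fin_two_of, hμ]⟩
  let j : SL(2, ZMod p) := ⟨!![-1, 0; 0, -1], by simp [Matrix.det_fin_two_of]⟩
  obtain ⟨ld, hld⟩ : ψ d ∈ φ.range := hψX ⟨_, rfl⟩
  obtain ⟨lj, hlj⟩ : ψ j ∈ φ.range := hψX ⟨_, rfl⟩
  have hjj : (φ lj) * φ lj = 1 := by
    rw [hlj, ← map_mul, map_eq_one_iff _ hψ]
    have hjv : j.1 = !![-1, 0; 0, -1] := rfl
    apply sl_ext <;> simp [hjv, Fusion.Dickson.sl_mul_apply]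
  have hjne : φ lj ≠ 1 := by
    rw [hlj, ne_eq, map_eq_one_iff _ hψ]
    intro e
    have := congrArg (fun t : SL(2, ZMod p) => t.1 0 0) e
    have hjv : j.1 = !![-1, 0; 0, -1] := rfl
    simp [hjv] at this
    exact Fusion.Dickson.two_ne (K := ZMod p) hp (by linear_combination -this)
  obtain ⟨hj00, -, hj10, hj11⟩ := eq_neg_one_of_sq h2 hjj hjne
  set e : ℕ := (μ * μ).val with he
  have heK : (e : K) = κ μ * κ μ := by
    rw [← map_mul, ← map_natCast κ e, he, ZMod.natCast_zmod_val]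
  have hd : d * up (m : ZMod p) * d⁻¹ = up (m : ZMod p) ^ e := by
    rw [up_pow, he, ZMod.natCast_zmod_val, mul_inv_eq_iff_eq_mul]
    have hdv : d.1 = !![μ, 0; 0, μ⁻¹] := rfl
    apply sl_ext <;> simp [hdv, Fusion.Dickson.sl_mul_apply, up_val]
    field_simp
  set t := φ (g * ld * g⁻¹) with ht
  have htconj : t * up r * t⁻¹ = up ((κ μ * κ μ) * r) := by
    rw [← hconj, ht, map_mul, map_mul, map_inv, hld, ← heK, ← up_pow, ← hconj]
    rw [conj_pow, ← map_pow, ← hd, map_mul, map_mul, map_inv]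
    group
  have hμK : κ μ ≠ 0 := fun e' => hμ (hκi (e'.trans (map_zero κ).symm))
  obtain ⟨ht10, ht00⟩ := upper_of_conj_up hr0 (mul_ne_zero hμK hμK) htconj
  have htd := Fusion.Dickson.sl_det t
  rw [ht10, mul_zero, sub_zero] at htd
  -- choose the sign
  obtain ⟨s0, hs10, hs00⟩ : ∃ s0 : L, (φ s0).1 1 0 = 0 ∧ (φ s0).1 0 0 = κ μ := by
    have hsq : t.1 0 0 * t.1 0 0 = κ μ * κ μ := by linear_combination t.1 0 0 * ht00 + (κ μ * κ μ) * htd
    rcases mul_self_eq_mul_self_iff.1 hsq with h | h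
    · exact ⟨_, ht10, h⟩
    · exact ⟨lj * (g * ld * g⁻¹), by
        rw [map_mul, Fusion.Dickson.sl_mul_apply, hj10, hj11, ← ht, ht10]; ring, by
        rw [map_mul, Fusion.Dickson.sl_mul_apply, hj00, ← ht, ht10, h]; ring⟩
  have hs11 : (φ s0).1 1 1 = κ μ⁻¹ := by
    have := Fusion.Dickson.sl_det (φ s0)
    rw [hs10, hs00, mul_zero, sub_zero] at this
    rw [map_inv₀, eq_inv_of_mul_eq_one_right this]
  -- move it into the normalizer of `P`
  set B := (Cfsg.upperUnipotentSL2 K).comap φ with hB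
  have hPB : (P : Subgroup L) ≤ B := fun x hx => mem_upper.2 (hP x hx)
  have hPsyl : IsSylowIn p (P : Subgroup L) B := ⟨hPB, P.2, fun U _ hU hle => P.3 hU hle⟩
  have hs0N : s0 ∈ Subgroup.normalizer (B : Set L) := by
    refine Subgroup.mem_normalizer_fintype fun x hx => ?_
    obtain ⟨c, hc⟩ := mem_upper.1 (show φ x ∈ Cfsg.upperUnipotentSL2 K from hx)
    refine mem_upper.2 ⟨κ μ * κ μ * c, ?_⟩
    rw [map_mul, map_mul, map_inv, hc, mul_inv_eq_iff_eq_mul]
    apply sl_ext <;> simp [Fusion.Dickson.sl_mul_apply, up_val, hs10, hs00, hs11, map_inv₀] <;> field_simp <;> ring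
  obtain ⟨l', hl', n, hn, hsn⟩ := frattini_argument hPsyl le_rfl Subgroup.le_normalizer hs0N
  obtain ⟨c, hc⟩ := mem_upper.1 (show φ l' ∈ Cfsg.upperUnipotentSL2 K from hl')
  have hn' : φ n = up (-c) * φ s0 := by rw [hsn, map_mul, hc, ← up_inv, inv_mul_cancel_left]
  have hn10 : (φ n).1 1 0 = 0 := by rw [hn', Fusion.Dickson.sl_mul_apply]; simp [up_val, hs10]
  have hn00 : (φ n).1 0 0 = κ μ := by rw [hn', Fusion.Dickson.sl_mul_apply]; simp [up_val, hs10, hs00]
  have hn11 : (φ n).1 1 1 = κ μ⁻¹ := by rw [hn', Fusion.Dickson.sl_mul_apply]; simp [up_val, hs11]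
  obtain ⟨j', q, hq, hnq⟩ := Nat.exists_eq_pow_mul_and_not_dvd (orderOf_pos n).ne' p hp'.one_lt.ne'
  set h := n ^ p ^ j' with hh
  have hho : orderOf h = q := by
    rw [hh, orderOf_pow_of_dvd (pow_ne_zero _ hp'.ne_zero) (hnq ▸ dvd_mul_right _ _), hnq,
      Nat.mul_div_cancel_left _ (pow_pos hp'.pos _)]
  obtain ⟨f00, f10, f11⟩ := upper_pow hn10 (p ^ j')
  rw [← map_pow, ← hh] at f00 f10 f11
  rw [hn00, ← map_pow, ZMod.pow_card_pow] at f00
  rw [hn11, ← map_pow, ZMod.pow_card_pow] at f11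
  refine ⟨h, pow_mem hn.2 _, hho ▸ ((hp'.coprime_iff_not_dvd.2 hq).symm), f10, f00, f11, ?_⟩
  by_cases hne : (φ h).1 1 1 - (φ h).1 0 0 = 0
  · refine ⟨0, ?_⟩
    rw [sub_eq_zero] at hne
    have hd1 := Fusion.Dickson.sl_det (φ h)
    rw [f10, mul_zero, sub_zero, hne] at hd1
    have hsq : φ h * φ h = up (2 * (φ h).1 0 0 * (φ h).1 0 1) := by
      apply sl_ext <;> simp [Fusion.Dickson.sl_mul_apply, up_val, f10, hne, hd1]
      ring
    have hpow : (φ h * φ h) ^ q = 1 := by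
      rw [← map_mul, ← map_pow, ← pow_two, ← pow_mul, mul_comm, pow_mul, ← hho, pow_orderOf_eq_one,
        one_pow, map_one]
    rw [hsq, up_pow] at hpow
    have h01 := congrArg (fun t : SL(2, K) => t.1 0 1) hpow
    have hqK : (q : K) ≠ 0 := fun e' => hq ((CharP.cast_eq_zero_iff K p q).1 e')
    have h00 : (φ h).1 0 0 ≠ 0 := fun e' => by rw [e', mul_zero] at hd1; exact zero_ne_one hd1
    simp [up_val, hqK, h2, h00] at h01
    simpa using h01
  · exact ⟨(φ h).1 0 1 / ((φ h).1 1 1 - (φ h).1 0 0), by rw [← mul_sub, div_mul_cancel₀ _ hne]⟩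

end SL

/-- The torus on a two-dimensional section over the prime field, with an eigenvector in `X`. -/
theorem exists_torus (hp : p ≠ 2) {M : Type u} [Group M] [Finite M] {Y : Type v} [AddCommGroup Y] [Finite Y]
    (hY : ∀ y : Y, p • y = 0) (ρ : M →* (AddMonoid.End Y)ˣ) (P : Sylow p M) (H₁ : Subgroup M)
    (hPH : (P : Subgroup M) ≤ H₁) {a b : M} (haP : a ∈ (P : Subgroup M)) (ha : IsQuad ρ a) (hb : IsQuad ρ b)
    (hbH : b ∉ H₁)
    (hloc : ∀ R : Subgroup M, R ≤ Subgroup.closure ({a, b} : Set M) → IsPGroup p R → a ∈ R →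
      R ≤ H₁ ∧ Subgroup.closure ({a, b} : Set M) ⊓ Subgroup.normalizer (R : Set M) ≤ H₁)
    (X : AddSubgroup Y) (hX : ∀ m ∈ H₁, ∀ y ∈ X, (ρ m : AddMonoid.End Y) y ∈ X)
    {z : Y} (hzX : z ∈ X) (hzP : ∀ x ∈ (P : Subgroup M), (ρ x : AddMonoid.End Y) z = z)
    (hz : ∀ m : M, (ρ m : AddMonoid.End Y) z = z → m ∈ H₁) (μ : ZMod p) (hμ : orderOf μ = p - 1) :
    ∃ h ∈ H₁, (∃ c ∈ X, c ≠ 0 ∧ (ρ h : AddMonoid.End Y) c = μ.val • c) ∧
      ∃ (D : AddSubgroup Y) (χ : D →+ ZMod p × ZMod p)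
        (hDa : ∀ y ∈ D, (ρ a : AddMonoid.End Y) y ∈ D) (hDh : ∀ y ∈ D, (ρ h : AddMonoid.End Y) y ∈ D),
        Function.Surjective χ ∧
        ∀ y : D, χ ⟨_, hDa y y.2⟩ = ((χ y).1 + (χ y).2, (χ y).2) ∧
          χ ⟨_, hDh y y.2⟩ = (μ * (χ y).1, μ⁻¹ * (χ y).2) := by
  classical
  have hp' : p.Prime := Fact.out
  have hp3 : 2 < p := lt_of_le_of_ne hp'.two_le hp.symm
  have hμ0 : μ ≠ 0 := by
    intro e
    rw [e, orderOf_eq_zero_iff'.2 (fun n hn => by simp [zero_pow hn.ne'])] at hμ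
    omega
  letI : Module (ZMod p) Y := AddCommGroup.zmodModule hY
  have hsmul : ∀ (c : ZMod p) (y : Y), c • y = c.val • y := fun c y => by
    rw [← Nat.cast_smul_eq_nsmul (ZMod p), ZMod.natCast_zmod_val]
  have hlin : ∀ (m : M) (c : ZMod p) (y : Y),
      (ρ m : AddMonoid.End Y) (c • y) = c • (ρ m : AddMonoid.End Y) y := fun m c y => by
    rw [hsmul, hsmul, map_nsmul]
  set L := Subgroup.closure ({a, b} : Set M) with hL
  let aL : L := ⟨a, Subgroup.subset_closure (Or.inl rfl)⟩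
  let bL : L := ⟨b, Subgroup.subset_closure (Or.inr rfl)⟩
  have hLgen : Subgroup.closure ({aL, bL} : Set L) = ⊤ := by
    apply Subgroup.map_injective L.subtype_injective
    rw [MonoidHom.map_closure, ← MonoidHom.range_eq_map, Subgroup.range_subtype, Set.image_insert_eq,
      Set.image_singleton]
    rfl
  obtain ⟨P0, hP0⟩ := (((P.2.to_le (Subgroup.zpowers_le.2 haP)).comap_of_injective L.subtype
    L.subtype_injective)).exists_le_sylow
  have haP0 : aL ∈ (P0 : Subgroup L) := hP0 (Subgroup.mem_zpowers a)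
  set R := (P0 : Subgroup L).map L.subtype with hR
  obtain ⟨hRH, hNR⟩ := hloc R (Subgroup.map_subtype_le _) (P0.2.map _) ⟨aL, haP0, rfl⟩
  have hPsyl : IsSylowIn p (P : Subgroup M) H₁ := ⟨hPH, P.2, fun U _ hU hle => P.3 hU hle⟩
  obtain ⟨R', hR', hRR'⟩ := exists_isSylowIn H₁ hRH (P0.2.map _)
  obtain ⟨u, hu, he⟩ := hR'.conjugate hPsyl
  set v := (ρ u⁻¹ : AddMonoid.End Y) z with hv
  have hvX : v ∈ X := hX _ (inv_mem hu) z hzX
  have hmul : ∀ (m m' : M) (y : Y), (ρ (m * m') : AddMonoid.End Y) y =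
      (ρ m : AddMonoid.End Y) ((ρ m' : AddMonoid.End Y) y) := fun m m' y => by rw [map_mul]; rfl
  have hone : ∀ y : Y, (ρ (1 : M) : AddMonoid.End Y) y = y := fun y => by rw [map_one]; rfl
  have hvfix : ∀ x ∈ (P0 : Subgroup L), (ρ (x : M) : AddMonoid.End Y) v = v := by
    intro x hx
    have h1 : u * (x : M) * u⁻¹ ∈ (P : Subgroup M) := by
      rw [he]; exact ⟨x, hRR' ⟨x, hx, rfl⟩, rfl⟩
    rw [hv, ← hmul, show (x : M) * u⁻¹ = u⁻¹ * (u * x * u⁻¹) by group, hmul, hzP _ h1]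
  have hbv : (ρ b : AddMonoid.End Y) v ≠ v := by
    intro e
    rw [hv] at e
    have h1 : (ρ (u * b * u⁻¹) : AddMonoid.End Y) z = z := by
      rw [hmul, hmul, e, ← hmul, mul_inv_cancel, hone]
    have := mul_mem (mul_mem (inv_mem hu) (hz _ h1)) hu
    exact hbH (by rwa [show u⁻¹ * (u * b * u⁻¹) * u = b by group] at this)
  -- the part fixed by `L`
  set ρL := ρ.comp L.subtype with hρL
  haveI := Fintype.ofFinite (↥L ⧸ (P0 : Subgroup L))
  let F : ↥L ⧸ (P0 : Subgroup L) → Y := fun q => (ρL q.out : AddMonoid.End Y) v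
  have hF : ∀ x : L, F (QuotientGroup.mk x) = (ρL x : AddMonoid.End Y) v := fun x => by
    obtain ⟨⟨s, hs⟩, hs'⟩ := QuotientGroup.mk_out_eq_mul (P0 : Subgroup L) x
    show (ρL _ : AddMonoid.End Y) v = _
    rw [hs']
    show (ρ ((x : M) * (s : M)) : AddMonoid.End Y) v = _
    rw [hmul, hvfix s hs]; rfl
  set n₀ := (P0 : Subgroup L).index with hn₀
  have hn₀p : (n₀ : ZMod p) ≠ 0 := fun e =>
    P0.not_dvd_index ((ZMod.natCast_eq_zero_iff n₀ p).1 e)
  set u0 := (n₀ : ZMod p)⁻¹ • ∑ q, F q with hu0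
  have hu0fix : ∀ l : L, (ρ (l : M) : AddMonoid.End Y) u0 = u0 := by
    intro l
    rw [hu0, hlin, map_sum]
    congr 1
    refine Fintype.sum_equiv (MulAction.toPerm l) _ _ fun q => ?_
    induction q using QuotientGroup.induction_on with
    | H x =>
      show (ρ (l : M) : AddMonoid.End Y) (F _) = F (QuotientGroup.mk (l * x))
      rw [hF, hF]; exact (hmul _ _ _).symm
  set w := v - u0 with hw
  have hwfix : ∀ x ∈ (P0 : Subgroup L), (ρ (x : M) : AddMonoid.End Y) w = w := fun x hx => by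
    rw [hw, map_sub, hvfix x hx, hu0fix]
  have hw0 : w ≠ 0 := fun e => hbv (by
    have := hu0fix bL
    rw [hw, sub_eq_zero] at e
    rwa [← e] at this)
  have hsumw : ∑ q : ↥L ⧸ (P0 : Subgroup L), (ρL q.out : AddMonoid.End Y) w = 0 := by
    have : ∀ q : ↥L ⧸ (P0 : Subgroup L), (ρL q.out : AddMonoid.End Y) w = F q - u0 := fun q => by
      rw [hw, map_sub]; exact congrArg _ (hu0fix q.out)
    rw [Finset.sum_congr rfl fun q _ => this q, Finset.sum_sub_distrib, Finset.sum_const, Finset.card_univ,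
      ← Nat.card_eq_fintype_card, ← Subgroup.index_eq_card, ← hn₀, ← Nat.cast_smul_eq_nsmul (ZMod p),
      hu0, smul_smul, mul_inv_cancel₀ hn₀p, one_smul, sub_self]
  -- the section
  let Inv : AddSubgroup Y → Prop := fun J => ∀ l : L, ∀ y ∈ J, (ρL l : AddMonoid.End Y) y ∈ J
  obtain ⟨N, ⟨hN, hwN⟩, hNmax⟩ := Set.exists_max_image {J : AddSubgroup Y | Inv J ∧ w ∉ J}
    (fun J => Nat.card J) (Set.toFinite _) ⟨⊥, fun l y hy => by
      rw [AddSubgroup.mem_bot] at hy ⊢; rw [hy, map_zero], by simpa using hw0⟩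
  set I := N ⊔ AddSubgroup.closure (Set.range fun l : L => (ρL l : AddMonoid.End Y) w) with hI'
  have hI : Inv I := by
    intro l y hy
    have : I ≤ I.comap (ρL l : AddMonoid.End Y) := by
      refine sup_le (fun x hx => AddSubgroup.mem_sup_left (hN l x hx)) ((AddSubgroup.closure_le _).2 ?_)
      rintro _ ⟨l', rfl⟩
      exact AddSubgroup.mem_sup_right (AddSubgroup.subset_closure ⟨l * l', by simp only [map_mul]; rfl⟩)
    exact this hy
  have hwI : w ∈ I := AddSubgroup.mem_sup_right (AddSubgroup.subset_closure ⟨1, by simp⟩)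
  obtain ⟨ρ', hρ'⟩ := exists_section_rep ρL I N hI hN
  set π := QuotientAddGroup.mk' (N.addSubgroupOf I) with hπ
  have hπ0 : ∀ y : I, π y = 0 ↔ (y : Y) ∈ N := fun y => QuotientAddGroup.eq_zero_iff y
  have hpV : ∀ x : ↥I ⧸ N.addSubgroupOf I, p • x = 0 := fun x => by
    induction x using QuotientAddGroup.induction_on with
    | H y =>
      show p • π y = 0
      rw [← map_nsmul, show p • y = 0 from Subtype.ext (hY y), map_zero]
  have hquad : ∀ l : L, IsQuad ρ (l : M) → ∀ x : ↥I ⧸ N.addSubgroupOf I,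
      (ρ' l : AddMonoid.End _) ((ρ' l : AddMonoid.End _) x - x) = (ρ' l : AddMonoid.End _) x - x := by
    intro l hl x
    induction x using QuotientAddGroup.induction_on with
    | H y =>
      rw [hρ', ← QuotientAddGroup.mk_sub, hρ']
      congr 1
      exact Subtype.ext (hl y)
  have hirr : ∀ W : AddSubgroup (↥I ⧸ N.addSubgroupOf I), (∀ x ∈ W, (ρ' aL : AddMonoid.End _) x ∈ W) →
      (∀ x ∈ W, (ρ' bL : AddMonoid.End _) x ∈ W) → W = ⊥ ∨ W = ⊤ := by
    intro W hWa hWb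
    set J := (W.comap π).map I.subtype with hJ
    have hJI : J ≤ I := by rintro _ ⟨y, -, rfl⟩; exact y.2
    have hNJ : N ≤ J := fun y hy => ⟨⟨y, AddSubgroup.mem_sup_left hy⟩, by
      show π _ ∈ W
      rw [(hπ0 _).2 hy]; exact zero_mem W, rfl⟩
    have hJinv : Inv J := inv_of_generators ρL {aL, bL} hLgen J (by
      rintro x (rfl | rfl) _ ⟨y, hy, rfl⟩
      · exact ⟨⟨_, hI aL y y.2⟩, (congrArg (· ∈ W) (hρ' aL y)).mp (hWa _ hy), rfl⟩
      · exact ⟨⟨_, hI bL y y.2⟩, (congrArg (· ∈ W) (hρ' bL y)).mp (hWb _ hy), rfl⟩)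
    by_cases hwJ : w ∈ J
    · refine Or.inr (eq_top_iff.2 fun x _ => ?_)
      induction x using QuotientAddGroup.induction_on with
      | H y =>
        have hIJ : I ≤ J := sup_le hNJ ((AddSubgroup.closure_le _).2 (by
          rintro _ ⟨l, rfl⟩; exact hJinv l w hwJ))
        obtain ⟨y', hy', hyy⟩ := hIJ y.2
        rwa [← show y' = y from Subtype.ext hyy]
    · refine Or.inl (eq_bot_iff.2 fun x hx => ?_)
      have hJN : J = N := (AddSubgroup.eq_of_le_of_card_ge hNJ (hNmax J ⟨hJinv, hwJ⟩)).symm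
      induction x using QuotientAddGroup.induction_on with
      | H y =>
        have : (y : Y) ∈ J := ⟨y, hx, rfl⟩
        exact AddSubgroup.mem_bot.2 ((hπ0 y).2 (hJN ▸ this))
  set wI : I := ⟨w, hwI⟩
  have hne : ¬ (ρ' aL = 1 ∧ ρ' bL = 1) := by
    rintro ⟨hA, hB⟩
    have htop : ρ'.ker = ⊤ := top_le_iff.1 (hLgen ▸ (Subgroup.closure_le _).2 (by
      rintro x (rfl | rfl)
      · exact hA
      · exact hB))
    have hsum : ∀ q : ↥L ⧸ (P0 : Subgroup L), (ρL q.out : AddMonoid.End Y) w - w ∈ N := fun q => by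
      have := hρ' q.out wI
      rw [show ρ' q.out = 1 from htop.ge trivial] at this
      have h2 : π (⟨_, hI q.out w hwI⟩ - wI) = 0 := by rw [map_sub, sub_eq_zero]; exact this.symm
      exact (hπ0 _).1 h2
    have h3 := sum_mem (t := Finset.univ) fun q _ => hsum q
    rw [Finset.sum_sub_distrib, hsumw, Finset.sum_const, Finset.card_univ, ← Nat.card_eq_fintype_card,
      ← Subgroup.index_eq_card, ← hn₀, zero_sub, neg_mem_iff] at h3
    have h4 := nsmul_mem h3 ((n₀ : ZMod p)⁻¹).val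
    rw [← hsmul, ← Nat.cast_smul_eq_nsmul (ZMod p) n₀, smul_smul, inv_mul_cancel₀ hn₀p, one_smul] at h4
    exact hwN h4
  obtain ⟨K, _, _, _, k, f, hk, -, hfa, hfb, Φ, hΦ, hΦf⟩ := Fusion.QuadSL2.exists_sl2_module hpV (ρ' aL)
    (ρ' bL) (hquad aL ha) (hquad bL hb) hne hirr
  set κ := ZMod.castHom (dvd_refl p) K with hκ
  have hκi : Function.Injective κ := κ.injective
  have hmem : ∀ l : L, ρ' l ∈ Subgroup.closure ({ρ' aL, ρ' bL} : Set _) := fun l => by
    have : ρ' l ∈ (Subgroup.closure ({aL, bL} : Set L)).map ρ' := ⟨l, hLgen ▸ trivial, rfl⟩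
    rwa [MonoidHom.map_closure, Set.image_insert_eq, Set.image_singleton] at this
  set φ := f.comp (ρ'.codRestrict _ hmem) with hφ
  set ζ : I →+ (Fin 2 → K) := (AddEquiv.ofBijective Φ hΦ).symm.toAddMonoidHom.comp π with hζ
  have hζe : ∀ (l : L) (y : I), ζ ⟨_, hI l y y.2⟩ = (φ l).1 *ᵥ ζ y := by
    intro l y
    refine hΦ.1 ?_
    have e1 : Φ ((φ l).1 *ᵥ ζ y) = (ρ' l : AddMonoid.End _) (Φ (ζ y)) := hΦf _ _
    have e2 : ∀ y' : I, Φ (ζ y') = π y' := fun y' => (AddEquiv.ofBijective Φ hΦ).apply_symm_apply (π y')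
    rw [e1, e2, e2]
    exact (hρ' l y).symm
  have hζ0 : ∀ y : I, ζ y = 0 ↔ (y : Y) ∈ N := fun y => by
    rw [← hπ0]; exact (AddEquiv.ofBijective Φ hΦ).symm.map_eq_zero_iff
  set z0 := ζ wI with hz0
  have hPfix : ∀ x ∈ (P0 : Subgroup L), (φ x).1 *ᵥ z0 = z0 := fun x hx => by
    rw [hz0, ← hζe]; congr 1; exact Subtype.ext (hwfix x hx)
  have hφa : φ aL = up k := hfa
  have hz01 : z0 1 = 0 := by
    have := congrFun (hPfix aL haP0) 0
    simp [hφa, up_val, Matrix.mulVec, dotProduct, Fin.sum_univ_two, hk] at this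
    exact this
  have hz00 : z0 0 ≠ 0 := by
    intro e
    refine hwN ((hζ0 wI).1 ?_)
    ext i; fin_cases i <;> simpa
  have hPup : ∀ x ∈ (P0 : Subgroup L), ∃ r, φ x = up r := by
    intro x hx
    have e0 := congrFun (hPfix x hx) 0
    have e1 := congrFun (hPfix x hx) 1
    simp [Matrix.mulVec, dotProduct, Fin.sum_univ_two, hz01, hz00] at e0 e1
    have hd := Fusion.Dickson.sl_det (φ x)
    rw [e0, e1, mul_zero, sub_zero, one_mul] at hd
    exact ⟨(φ x).1 0 1, sl_ext (by simp [up_val, e0]) (by simp [up_val]) (by simp [up_val, e1])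
      (by simp [up_val, hd])⟩
  obtain ⟨hl, hlN, hco, h10, h00, h11, cK, h01⟩ :=
    exists_torus_normalizing hp φ hk hφa (show φ bL = low 1 from hfb) P0 hPup μ hμ0
  have hhH : (hl : M) ∈ H₁ := hNR ⟨hl.2, Subgroup.le_normalizer_map L.subtype ⟨hl, hlN, rfl⟩⟩
  refine ⟨hl, hhH, ?_, ?_⟩
  · -- the eigenvector
    set n := orderOf hl with hn
    set E : Y → Y := fun y => ∑ i ∈ Finset.range n, (μ⁻¹) ^ i • (ρL (hl ^ i) : AddMonoid.End Y) y with hE
    have hμn : μ ^ n = 1 := by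
      have := (upper_pow (n := n) h10).1
      rw [h00, ← map_pow φ, hn, pow_orderOf_eq_one, map_one, ← map_pow] at this
      refine hκi ?_
      rw [map_one]
      exact this.symm
    have hμ1 : μ⁻¹ ≠ 1 := by
      rw [ne_eq, inv_eq_one]
      intro e; rw [e, orderOf_one] at hμ; omega
    have hEu : E u0 = 0 := by
      have : ∀ i ∈ Finset.range n, (μ⁻¹) ^ i • (ρL (hl ^ i) : AddMonoid.End Y) u0 = (μ⁻¹) ^ i • u0 :=
        fun i _ => congrArg _ (hu0fix (hl ^ i))
      simp only [hE]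
      rw [Finset.sum_congr rfl this, ← Finset.sum_smul]
      have h1 := geom_sum_mul (μ⁻¹) n
      rw [inv_pow μ n, hμn, inv_one, sub_self, mul_eq_zero] at h1
      rw [h1.resolve_right (sub_ne_zero.2 hμ1), zero_smul]
    have hEv : E v = E w := by
      have : E v = E w + E u0 := by
        simp only [hE, ← Finset.sum_add_distrib, ← smul_add, ← map_add, hw, sub_add_cancel]
      rw [this, hEu, add_zero]
    have hterm : ∀ i : ℕ, (μ⁻¹) ^ i • (ρL (hl ^ i) : AddMonoid.End Y) w - w ∈ N := by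
      intro i
      have h1 : (ρL (hl ^ i) : AddMonoid.End Y) w - μ ^ i • w ∈ N := by
        rw [hsmul]
        refine (hζ0 (⟨_, hI (hl ^ i) w hwI⟩ - (μ ^ i).val • wI)).1 ?_
        rw [map_sub, map_nsmul, hζe (hl ^ i) wI, map_pow φ, sub_eq_zero, ← hz0]
        obtain ⟨g00, g10, -⟩ := upper_pow (n := i) h10
        have hc : ((μ ^ i).val : K) = κ μ ^ i := by
          rw [← map_pow, ← map_natCast κ, ZMod.natCast_zmod_val]
        ext r; fin_cases r <;>
          simp [-Matrix.SpecialLinearGroup.coe_pow, Matrix.mulVec, dotProduct, Fin.sum_univ_two, g00, g10, h00,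
            hz01, hc, ← hκ]
      have h2 := nsmul_mem h1 ((μ⁻¹) ^ i).val
      rwa [← hsmul, smul_sub, smul_smul, ← mul_pow, inv_mul_cancel₀ hμ0, one_pow, one_smul] at h2
    refine ⟨E v, sum_mem fun i _ => ?_, ?_, ?_⟩
    · rw [hsmul]
      exact nsmul_mem (hX _ (by simpa using pow_mem hhH i) v hvX) _
    · intro h0
      have h1 := sum_mem (t := Finset.range n) fun i _ => hterm i
      rw [Finset.sum_sub_distrib, Finset.sum_const, Finset.card_range] at h1
      rw [show ∑ i ∈ Finset.range n, (μ⁻¹) ^ i • (ρL (hl ^ i) : AddMonoid.End Y) w = 0 from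
        hEv.symm.trans h0, zero_sub, neg_mem_iff] at h1
      have hnp : (n : ZMod p) ≠ 0 := fun e =>
        (hp'.coprime_iff_not_dvd.1 hco.symm) ((ZMod.natCast_eq_zero_iff n p).1 e)
      have h2 := nsmul_mem h1 ((n : ZMod p)⁻¹).val
      rw [← hsmul, ← Nat.cast_smul_eq_nsmul (ZMod p) n, smul_smul, inv_mul_cancel₀ hnp, one_smul] at h2
      exact hwN h2
    · rw [← hsmul]
      simp only [hE]
      rw [map_sum, Finset.smul_sum]
      have e : ∀ i : ℕ, (ρ (hl : M) : AddMonoid.End Y) ((μ⁻¹) ^ i • (ρL (hl ^ i) : AddMonoid.End Y) v) =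
          μ • ((μ⁻¹) ^ (i + 1) • (ρL (hl ^ (i + 1)) : AddMonoid.End Y) v) := fun i => by
        rw [hlin, smul_smul, pow_succ' (μ⁻¹), ← mul_assoc, mul_inv_cancel₀ hμ0, one_mul, pow_succ' hl]
        exact congrArg _ (hmul _ _ _).symm
      rw [Finset.sum_congr rfl fun i _ => e i, ← Finset.smul_sum, ← Finset.smul_sum]
      congr 1
      have h1 := Finset.sum_range_succ' (fun i => (μ⁻¹) ^ i • (ρL (hl ^ i) : AddMonoid.End Y) v) n
      rw [Finset.sum_range_succ] at h1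
      rw [inv_pow μ n, hμn, inv_one, show hl ^ n = 1 from pow_orderOf_eq_one hl, pow_zero, pow_zero] at h1
      exact (add_right_cancel h1).symm
  · -- the section over the prime field
    letI : Algebra (ZMod p) K := ZMod.algebra K p
    have hal : ∀ (x : ZMod p) (y : K), x • y = κ x * y := fun x y => Algebra.smul_def x y
    obtain ⟨ℓ, hℓ⟩ := LinearMap.exists_leftInverse_of_injective (LinearMap.toSpanSingleton (ZMod p) K k)
      (LinearMap.ker_eq_bot.2 (fun x y e => by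
        simp only [LinearMap.toSpanSingleton_apply, hal] at e
        exact hκi (mul_right_cancel₀ hk e)))
    obtain ⟨ℓ1, hℓ1⟩ := LinearMap.exists_leftInverse_of_injective (LinearMap.toSpanSingleton (ZMod p) K 1)
      (LinearMap.ker_eq_bot.2 (fun x y e => by
        simp only [LinearMap.toSpanSingleton_apply, hal, mul_one] at e
        exact hκi e))
    have hℓk : ∀ x : ZMod p, ℓ (κ x * k) = x := fun x => by
      have := LinearMap.congr_fun hℓ x
      simpa [hal] using this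
    have hℓ1' : ∀ x : ZMod p, ℓ1 (κ x) = x := fun x => by
      have := LinearMap.congr_fun hℓ1 x
      simpa [hal] using this
    set ζ1 : I →+ K := (Pi.evalAddMonoidHom (fun _ => K) 1).comp ζ with hζ1
    set D := (AddSubgroup.comap ζ1 (κ : ZMod p →+ K).range).map I.subtype with hD
    have hDI : D ≤ I := by rintro _ ⟨y, -, rfl⟩; exact y.2
    have hD1 : ∀ y : D, ∃ x : ZMod p, κ x = ζ ⟨y, hDI y.2⟩ 1 := by
      rintro ⟨_, y, hy, rfl⟩; exact hy
    let χ : D →+ ZMod p × ZMod p := AddMonoidHom.mk'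
      (fun y => (ℓ (ζ ⟨y, hDI y.2⟩ 0 - cK * ζ ⟨y, hDI y.2⟩ 1), ℓ1 (ζ ⟨y, hDI y.2⟩ 1))) (fun y y' => by
        rw [show (⟨((y + y' : D) : Y), hDI (y + y').2⟩ : I) = ⟨y, hDI y.2⟩ + ⟨y', hDI y'.2⟩ from rfl, map_add]
        simp only [Pi.add_apply, mul_add, add_sub_add_comm, map_add, Prod.mk_add_mk])
    have hφ1 : ∀ (l : L), (φ l).1 1 0 = 0 → (∃ x, (φ l).1 1 1 = κ x) → ∀ y ∈ D,
        (ρ (l : M) : AddMonoid.End Y) y ∈ D := by
      rintro l hl0 ⟨x, hx⟩ _ ⟨y, ⟨x', hx'⟩, rfl⟩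
      refine ⟨⟨_, hI l y y.2⟩, ⟨x * x', ?_⟩, rfl⟩
      show κ (x * x') = ζ _ 1
      rw [hζe, map_mul, show κ x' = ζ y 1 from hx']
      simp [Matrix.mulVec, dotProduct, Fin.sum_univ_two, hl0, hx]
    have hDa : ∀ y ∈ D, (ρ a : AddMonoid.End Y) y ∈ D :=
      hφ1 aL (by simp [hφa, up_val]) ⟨1, by simp [hφa, up_val]⟩
    have hDh : ∀ y ∈ D, (ρ (hl : M) : AddMonoid.End Y) y ∈ D := hφ1 hl h10 ⟨_, h11⟩
    refine ⟨D, χ, hDa, hDh, ?_, fun y => ?_⟩
    · rintro ⟨x, y⟩
      obtain ⟨i, hi⟩ : ∃ i : I, ζ i = ![κ x * k + cK * κ y, κ y] := by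
        obtain ⟨i, hi⟩ := QuotientAddGroup.mk'_surjective (N.addSubgroupOf I)
          (Φ ![κ x * k + cK * κ y, κ y])
        exact ⟨i, by rw [hζ]; simp only [AddMonoidHom.coe_comp, Function.comp_apply, ← hπ] at hi ⊢
                     rw [hi]; exact (AddEquiv.ofBijective Φ hΦ).symm_apply_apply _⟩
      refine ⟨⟨i, i, ⟨y, by show κ y = ζ i 1; rw [hi]; rfl⟩, rfl⟩, ?_⟩
      show (ℓ (ζ i 0 - cK * ζ i 1), ℓ1 (ζ i 1)) = _
      simp [hi, hℓk, hℓ1']
    · obtain ⟨x, hx⟩ := hD1 y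
      constructor
      · show (ℓ (ζ ⟨_, hDI (hDa y y.2)⟩ 0 - cK * ζ ⟨_, hDI (hDa y y.2)⟩ 1), ℓ1 (ζ ⟨_, hDI (hDa y y.2)⟩ 1)) = _
        rw [show (⟨_, hDI (hDa y y.2)⟩ : I) = ⟨_, hI aL y (hDI y.2)⟩ from rfl, hζe aL ⟨y, hDI y.2⟩]
        refine Prod.ext ?_ ?_
        · show ℓ _ = ℓ _ + ℓ1 _
          simp only [hφa, up_val, Matrix.mulVec, dotProduct, Fin.sum_univ_two, Matrix.of_apply,
            Matrix.cons_val_zero, Matrix.cons_val_one, one_mul, zero_mul, zero_add]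
          rw [← hx, hℓ1', add_sub_right_comm, map_add, mul_comm k (κ x), hℓk]
        · show ℓ1 _ = ℓ1 _
          simp [hφa, up_val, Matrix.mulVec, dotProduct, Fin.sum_univ_two]
      · show (ℓ (ζ ⟨_, hDI (hDh y y.2)⟩ 0 - cK * ζ ⟨_, hDI (hDh y y.2)⟩ 1), ℓ1 (ζ ⟨_, hDI (hDh y y.2)⟩ 1)) = _
        rw [show (⟨_, hDI (hDh y y.2)⟩ : I) = ⟨_, hI hl y (hDI y.2)⟩ from rfl, hζe hl ⟨y, hDI y.2⟩]
        refine Prod.ext ?_ ?_
        · show ℓ _ = μ * ℓ _
          rw [← smul_eq_mul (a := μ), ← LinearMap.map_smul, hal]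
          congr 1
          simp only [Matrix.mulVec, dotProduct, Fin.sum_univ_two, h10, h01, h00, h11, ← hκ]
          ring
        · show ℓ1 _ = μ⁻¹ * ℓ1 _
          rw [← smul_eq_mul (a := μ⁻¹), ← LinearMap.map_smul, hal]
          congr 1
          simp [Matrix.mulVec, dotProduct, Fin.sum_univ_two, h10, h11, ← hκ]

end CfsgLib.LocalEven.AutomizerControl
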