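import Cfsg.Prelude.Def_LocalEven
import Cfsg.Agent.Lib.Coprime.Action
import Cfsg.Agent.Lib.LocalEven.SylowIn
import Cfsg.Agent.Lib.LocalEven.InvolvesDihedral
import Cfsg.Agent.Lib.LocalEven.AutomizerControl.Torus

/-!
Realizing the group `F(p)` as a section, and cyclic subgroups of order `p` with full automizer.
-/

set_option autoImplicit false
set_option linter.unusedSectionVars false

namespace CfsgLib.LocalEven.AutomizerControl

open Matrix CfsgLib.Perm.SL2Unipotent CfsgLib.Fusion.QuadSL2 CfsgLib.LocalEven.SylowIn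
open scoped MatrixGroups commutatorElement

variable {p : ℕ} [Fact p.Prime]

/-- The action of a matrix on pairs. -/
def act {K : Type*} [Field K] (m : SL(2, K)) (v : K × K) : K × K :=
  (m.1 0 0 * v.1 + m.1 0 1 * v.2, m.1 1 0 * v.1 + m.1 1 1 * v.2)

/-- A translation in `SL₃`. -/
def trans {K : Type*} [Field K] (v : K × K) : SL(3, K) :=
  ⟨!![1, 0, v.1; 0, 1, v.2; 0, 0, 1], by simp [Matrix.det_fin_three]⟩

/-- A block in `SL₃`. -/
def block {K : Type*} [Field K] (m : SL(2, K)) : SL(3, K) :=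
  ⟨!![m.1 0 0, m.1 0 1, 0; m.1 1 0, m.1 1 1, 0; 0, 0, 1], by
    simp [Matrix.det_fin_three]; linear_combination Fusion.Dickson.sl_det m⟩

theorem trans_val {K : Type*} [Field K] (v : K × K) : (trans v).1 = !![1, 0, v.1; 0, 1, v.2; 0, 0, 1] := rfl

theorem block_val {K : Type*} [Field K] (m : SL(2, K)) :
    (block m).1 = !![m.1 0 0, m.1 0 1, 0; m.1 1 0, m.1 1 1, 0; 0, 0, 1] := rfl

theorem trans_block_mul {K : Type*} [Field K] (v w : K × K) (m n : SL(2, K)) :
    trans v * block m * (trans w * block n) = trans (v + act m w) * block (m * n) := by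
  ext i j
  fin_cases i <;> fin_cases j <;>
    simp [trans_val, block_val, act, Fusion.Dickson.sl_mul_apply, Matrix.SpecialLinearGroup.coe_mul,
      Matrix.mul_apply, Fin.sum_univ_three] <;> ring

theorem act_mul {K : Type*} [Field K] (m n : SL(2, K)) (v : K × K) : act (m * n) v = act m (act n v) := by
  refine Prod.ext ?_ ?_ <;> simp only [act, Fusion.Dickson.sl_mul_apply] <;> ring

theorem act_one {K : Type*} [Field K] (v : K × K) : act (1 : SL(2, K)) v = v := by simp [act]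

theorem act_injective {K : Type*} [Field K] {m n : SL(2, K)} (h : ∀ v, act m v = act n v) : m = n := by
  have h1 := h (1, 0)
  have h2 := h (0, 1)
  simp [act, Prod.ext_iff] at h1 h2
  exact sl_ext h1.1 h2.1 h1.2 h2.2

theorem exists_pow_eq {μ x : ZMod p} (hμ : orderOf μ = p - 1) (hx : x ≠ 0) : ∃ i : ℕ, μ ^ i = x := by
  have hp1 : p - 1 ≠ 0 := by have := (Fact.out : p.Prime).two_le; omega
  set u : (ZMod p)ˣ := Units.ofPowEqOne μ (p - 1) (hμ ▸ pow_orderOf_eq_one μ) hp1 with hu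
  have hou : orderOf u = p - 1 := by rw [← orderOf_units, hu, Units.val_ofPowEqOne, hμ]
  have htop : Subgroup.zpowers u = ⊤ := Subgroup.eq_top_of_card_eq _ (by
    rw [Nat.card_zpowers, hou, Nat.card_eq_fintype_card, ZMod.card_units])
  obtain ⟨i, hi⟩ := mem_powers_iff_mem_zpowers.2 (show Units.mk0 x hx ∈ Subgroup.zpowers u by rw [htop]; trivial)
  exact ⟨i, by simpa [hu] using congrArg Units.val hi⟩

theorem upper_diag_of_pow_eq_one {m : SL(2, ZMod p)} (h10 : m.1 1 0 = 0) {k : ℕ} (h : m ^ p ^ k = 1) :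
    ∃ c, m = up c := by
  obtain ⟨f00, -, f11⟩ := upper_pow h10 (p ^ k)
  rw [h, ZMod.pow_card_pow] at f00 f11
  refine ⟨m.1 0 1, sl_ext ?_ ?_ ?_ ?_⟩ <;> simp [up_val, h10, ← f00, ← f11]

/-- The core construction: a group with a normal subgroup mapped onto pairs. -/
theorem involves_fOver_of_triangular (hp : p ≠ 2) {Γ : Type*} [Group Γ] [Finite Γ] (U : Subgroup Γ) [U.Normal]
    (χ : U → ZMod p × ZMod p) (hχ : ∀ u v : U, χ (u * v) = χ u + χ v) (hsurj : Function.Surjective χ)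
    (σ : Γ →* SL(2, ZMod p)) (hσ : ∀ g, (σ g).1 1 0 = 0)
    (hχσ : ∀ (g : Γ) (u : U) (h : g * (u : Γ) * g⁻¹ ∈ U), χ ⟨g * (u : Γ) * g⁻¹, h⟩ = act (σ g) (χ u))
    {a h : Γ} (hap : IsPGroup p (Subgroup.zpowers a)) (ha : σ a = up 1)
    {μ : ZMod p} (hμ : orderOf μ = p - 1) (hh : (σ h).1 0 0 = μ) :
    Cfsg.Involves ↥(Cfsg.fOver (ZMod p)) Γ := by
  have hp' : p.Prime := Fact.out
  have h2 : (2 : ZMod p) ≠ 0 := Fusion.Dickson.two_ne hp
  have hσU : ∀ u : U, σ u = 1 := by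
    intro u
    refine act_injective fun v => ?_
    obtain ⟨w, rfl⟩ := hsurj v
    have hm : (u : Γ) * (w : Γ) * (u : Γ)⁻¹ ∈ U := mul_mem (mul_mem u.2 w.2) (inv_mem u.2)
    rw [← hχσ u w hm, act_one]
    have e1 := hχ ⟨_, hm⟩ u
    rw [show (⟨_, hm⟩ : U) * u = u * w from Subtype.ext (by simp)] at e1
    rw [hχ, add_comm] at e1
    exact (add_right_cancel e1).symm
  -- a Sylow subgroup of the unipotent part
  set Λ := (Cfsg.upperUnipotentSL2 (ZMod p)).comap σ with hΛ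
  obtain ⟨R, hR⟩ := hap.exists_le_sylow
  have hRΛ : (R : Subgroup Γ) ≤ Λ := by
    intro r hr
    obtain ⟨k, hk⟩ := R.2 ⟨r, hr⟩
    refine mem_upper.2 (upper_diag_of_pow_eq_one (hσ r) (k := k) ?_)
    rw [← map_pow, show r ^ p ^ k = 1 from congrArg Subtype.val hk, map_one]
  have hRsyl : IsSylowIn p (R : Subgroup Γ) Λ := ⟨hRΛ, R.2, fun V _ hV hle => R.3 hV hle⟩
  haveI : Λ.Normal := ⟨fun x hx g => by
    obtain ⟨c, hc⟩ := mem_upper.1 (show σ x ∈ Cfsg.upperUnipotentSL2 (ZMod p) from hx)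
    refine mem_upper.2 ⟨(σ g).1 0 0 * (σ g).1 0 0 * c, ?_⟩
    have hd := Fusion.Dickson.sl_det (σ g)
    rw [hσ, mul_zero, sub_zero] at hd
    rw [map_mul, map_mul, map_inv, hc, mul_inv_eq_iff_eq_mul]
    apply sl_ext <;> simp [Fusion.Dickson.sl_mul_apply, up_val, hσ]
    linear_combination -((σ g).1 0 0 * c) * hd⟩
  obtain ⟨l, hl, n, hn, hln⟩ := frattini_argument hRsyl (H := ⊤)
    (by rw [Subgroup.normalizer_eq_top]) le_top (Subgroup.mem_top h)
  obtain ⟨cl, hcl⟩ := mem_upper.1 (show σ l ∈ Cfsg.upperUnipotentSL2 (ZMod p) from hl)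
  have hn00 : (σ n).1 0 0 = μ := by
    have := congrArg (fun t : SL(2, ZMod p) => t.1 0 0) (congrArg σ hln)
    simp only [map_mul, hcl, Fusion.Dickson.sl_mul_apply, hh, hσ, mul_zero, add_zero] at this
    simpa [up_val] using this.symm
  obtain ⟨j, q, hq, hnq⟩ := Nat.exists_eq_pow_mul_and_not_dvd (orderOf_pos n).ne' p hp'.one_lt.ne'
  set h2' := n ^ p ^ j with hh2
  have hho : orderOf h2' = q := by
    rw [hh2, orderOf_pow_of_dvd (pow_ne_zero _ hp'.ne_zero) (hnq ▸ dvd_mul_right _ _), hnq,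
      Nat.mul_div_cancel_left _ (pow_pos hp'.pos _)]
  have h200 : (σ h2').1 0 0 = μ := by
    rw [hh2, map_pow, (upper_pow (hσ n) _).1, hn00, ZMod.pow_card_pow]
  set z := h2' ^ ((p - 1) / 2) with hz
  have hev : (p - 1) / 2 * 2 = p - 1 :=
    Nat.div_mul_cancel ((hp'.even_sub_one hp).two_dvd)
  have hz00 : (σ z).1 0 0 = -1 := by
    rw [hz, map_pow, (upper_pow (hσ h2') _).1, h200]
    have h1 : (μ ^ ((p - 1) / 2)) * (μ ^ ((p - 1) / 2)) = 1 := by
      rw [← pow_two, ← pow_mul, hev, ← hμ, pow_orderOf_eq_one]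
    refine (mul_self_eq_one_iff.1 h1).resolve_left fun e => ?_
    have h3 := orderOf_dvd_of_pow_eq_one e
    rw [hμ] at h3
    have hp2 := hp'.two_le
    have := Nat.le_of_dvd (by omega) h3
    omega
  have hzo : (orderOf z).Coprime p :=
    Nat.Coprime.coprime_dvd_left (hho ▸ orderOf_pow_dvd (x := h2') _) ((hp'.coprime_iff_not_dvd.2 hq).symm)
  have hσz : ∀ v, act (σ z) v = -v := by
    have hd := Fusion.Dickson.sl_det (σ z)
    rw [hσ, mul_zero, sub_zero, hz00] at hd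
    have h11 : (σ z).1 1 1 = -1 := by linear_combination -hd
    have h01 : (σ z).1 0 1 = 0 := by
      have hsq : σ z * σ z = up ((-2) * (σ z).1 0 1) := by
        apply sl_ext <;> simp [Fusion.Dickson.sl_mul_apply, up_val, hσ, hz00, h11]
        ring
      have hpow : (σ z * σ z) ^ orderOf z = 1 := by
        rw [← pow_two, ← pow_mul, mul_comm, pow_mul, ← map_pow, pow_orderOf_eq_one, map_one, one_pow]
      rw [hsq, up_pow] at hpow
      have h01' := congrArg (fun t : SL(2, ZMod p) => t.1 0 1) hpow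
      have hqK : (orderOf z : ZMod p) ≠ 0 := fun e' =>
        hp'.coprime_iff_not_dvd.1 hzo.symm ((ZMod.natCast_eq_zero_iff _ p).1 e')
      simpa [up_val, hqK, h2] using h01'
    intro v
    simp [act, hz00, h11, h01, hσ, Prod.ext_iff]
  have hzN : z ∈ Subgroup.normalizer ((R : Subgroup Γ) : Set Γ) :=
    pow_mem (pow_mem (Subgroup.mem_inf.1 hn).2 _) _
  -- a lift of the transvection commuting with `z`
  have hA : Subgroup.zpowers z ≤ Subgroup.normalizer (((R : Subgroup Γ) ⊓ σ.ker : Subgroup Γ) : Set Γ) := by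
    rw [Subgroup.zpowers_le, ← map_conj_eq_iff, Subgroup.map_inf _ _ _ (MulAut.conj z).injective,
      map_conj_eq_iff.2 hzN, map_conj_eq_iff.2 (by rw [Subgroup.normalizer_eq_top]; trivial)]
  have hcop : (Nat.card (Subgroup.zpowers z)).Coprime (Nat.card ((R : Subgroup Γ) ⊓ σ.ker : Subgroup Γ)) := by
    obtain ⟨i, hi⟩ := IsPGroup.iff_card.1 (R.2.to_le (inf_le_left : (R : Subgroup Γ) ⊓ σ.ker ≤ R))
    rw [Nat.card_zpowers, hi]
    exact hzo.pow_right i
  have haR : a ∈ (R : Subgroup Γ) := hR (Subgroup.mem_zpowers a)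
  have hzact : ∀ y ∈ Subgroup.zpowers z, σ y * up 1 = up 1 * σ y := by
    intro y hy
    obtain ⟨i, -, rfl⟩ : ∃ i : ℕ, True ∧ z ^ i = y := by
      obtain ⟨i, hi⟩ := mem_powers_iff_mem_zpowers.2 hy
      exact ⟨i, trivial, hi⟩
    rw [map_pow]
    refine (Commute.pow_left (act_injective fun v => ?_) i).eq
    rw [act_mul, act_mul, hσz, hσz]
    simp only [act, up_val, Prod.neg_mk]
    refine Prod.ext ?_ ?_ <;> simp <;> ring
  obtain ⟨m, hm, hmz⟩ := Coprime.exists_mul_mem_centralizer hA hcop (Or.inl (Coprime.isSolvable_zpowers z))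
    (k := a) (fun y hy => by
      refine Subgroup.mem_inf.2 ⟨?_, ?_⟩
      · rw [commutatorElement_def]
        exact mul_mem ((Subgroup.mem_normalizer_iff.1 ((Subgroup.zpowers_le.2 hzN) hy) a).1 haR) (inv_mem haR)
      · rw [MonoidHom.mem_ker, map_commutatorElement, commutatorElement_eq_one_iff_mul_comm, ha]
        exact hzact y hy)
  set a' := m * a with ha'
  have hσa' : σ a' = up 1 := by rw [ha', map_mul, (Subgroup.mem_inf.1 hm).2, one_mul, ha]
  set BB := Subgroup.centralizer ({z} : Set Γ) with hBB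
  have ha'B : a' ∈ BB := Subgroup.mem_centralizer_singleton_iff.2
    (Subgroup.mem_centralizer_iff.1 hmz z (Subgroup.mem_zpowers z)).symm
  have hh2B : h2' ∈ BB := Subgroup.mem_centralizer_singleton_iff.2 (by rw [hz]; exact (Commute.self_pow h2' _).eq)
  -- `U` and `BB` meet in the kernel of `χ`
  have hmeet : ∀ u : U, (u : Γ) ∈ BB → χ u = 0 := by
    intro u hu
    have hzu : z * (u : Γ) * z⁻¹ = u := by
      rw [mul_inv_eq_iff_eq_mul]; exact (Subgroup.mem_centralizer_singleton_iff.1 hu).symm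
    have e := hχσ z u (hzu.symm ▸ u.2)
    rw [show (⟨z * (u : Γ) * z⁻¹, hzu.symm ▸ u.2⟩ : U) = u from Subtype.ext hzu, hσz] at e
    have e1 : (2 : ZMod p) * (χ u).1 = 0 := by
      have := congrArg Prod.fst e; simp at this; linear_combination this
    have e2 : (2 : ZMod p) * (χ u).2 = 0 := by
      have := congrArg Prod.snd e; simp at this; linear_combination this
    exact Prod.ext (by simpa [h2] using e1) (by simpa [h2] using e2)
  set K := U ⊔ BB with hK
  have hdec : ∀ k : K, ∃ u : U, ∃ x ∈ BB, (u : Γ) * x = k := fun k => by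
    obtain ⟨y, hy, x, hx, e⟩ := Subgroup.mem_sup_of_normal_left.1 k.2
    exact ⟨⟨y, hy⟩, x, hx, e⟩
  choose ku kx hkx hke using hdec
  let Θ₀ : K → SL(3, ZMod p) := fun k => trans (χ (ku k)) * block (σ (kx k))
  have hwd : ∀ (u : U) (x : Γ), x ∈ BB → ∀ k : K, (u : Γ) * x = k → Θ₀ k = trans (χ u) * block (σ x) := by
    intro u x hx k e
    have hd : (u : Γ)⁻¹ * ku k = x * (kx k)⁻¹ := by
      rw [← mul_inv_eq_iff_eq_mul.2 (e.trans (hke k).symm)]; group
    set d : U := u⁻¹ * ku k with hd'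
    have hdB : (d : Γ) ∈ BB := by
      show (u : Γ)⁻¹ * ku k ∈ BB
      rw [hd]; exact mul_mem hx (inv_mem (hkx k))
    have e0 : χ (ku k) = χ u := by
      have := hχ u d
      rw [hmeet d hdB, add_zero, hd', mul_inv_cancel_left] at this
      exact this
    have e1 : σ (kx k) = σ x := by
      have := hσU d
      rw [show (d : Γ) = x * (kx k)⁻¹ from hd, map_mul, map_inv, mul_inv_eq_one] at this
      exact this.symm
    simp only [Θ₀, e0, e1]
  let Θ : K →* SL(3, ZMod p) := MonoidHom.mk' Θ₀ (fun k k' => by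
    set v : U := ⟨kx k * (ku k' : Γ) * (kx k)⁻¹, ‹U.Normal›.conj_mem _ (ku k').2 _⟩ with hv
    rw [hwd (ku k * v) (kx k * kx k') (mul_mem (hkx k) (hkx k')) (k * k') (by
      push_cast [hv]
      rw [← hke k, ← hke k']
      group)]
    simp only [Θ₀]
    rw [trans_block_mul, hχ, map_mul, hv, hχσ])
  -- the image
  have hΘgen : ∀ M : SL(3, ZMod p), M.1 1 0 = 0 → M.1 2 0 = 0 → M.1 2 1 = 0 → M.1 2 2 = 1 → M ∈ Θ.range := by
    intro M h10 h20 h21 h22
    have hdet : M.1 0 0 * M.1 1 1 = 1 := by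
      have := M.2
      rw [Matrix.det_fin_three, h10, h20, h21, h22] at this
      linear_combination this
    obtain ⟨i, hi⟩ := exists_pow_eq hμ (left_ne_zero_of_mul_eq_one hdet)
    obtain ⟨g00, g10, g11⟩ := upper_pow (hσ h2') i
    set g := σ h2' ^ i with hg
    rw [h200, hi] at g00
    have hgd := Fusion.Dickson.sl_det g
    rw [g10, mul_zero, sub_zero, g00] at hgd
    have hgne : g.1 1 1 ≠ 0 := right_ne_zero_of_mul_eq_one hgd
    have hg11 : g.1 1 1 = M.1 1 1 := mul_left_cancel₀ (left_ne_zero_of_mul_eq_one hdet) (hgd.trans hdet.symm)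
    set c := (M.1 0 1 - g.1 0 1) / g.1 1 1 with hc
    set x := a' ^ c.val * h2' ^ i with hx
    have hσx : σ x = up c * g := by
      rw [hx, map_mul, map_pow, map_pow, hσa', up_pow, ZMod.natCast_zmod_val, mul_one]
    obtain ⟨u, hu⟩ := hsurj (M.1 0 2, M.1 1 2)
    have hxB : x ∈ BB := mul_mem (pow_mem ha'B _) (pow_mem hh2B _)
    refine ⟨⟨u * x, mul_mem (Subgroup.mem_sup_left u.2) (Subgroup.mem_sup_right hxB)⟩, ?_⟩
    show Θ₀ _ = M
    rw [hwd u x hxB _ rfl, hσx, hu]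
    have h01 : c * g.1 1 1 = M.1 0 1 - g.1 0 1 := div_mul_cancel₀ _ hgne
    ext i' j'
    fin_cases i' <;> fin_cases j' <;>
      simp [trans_val, block_val, Fusion.Dickson.sl_mul_apply, up_val, g00, g10, hg11,
        Matrix.SpecialLinearGroup.coe_mul, Matrix.mul_apply, Fin.sum_univ_three, h10, h20, h21, h22]
    rw [← hg11, h01]; ring
  have hrange : Θ.range = Cfsg.fOver (ZMod p) := by
    refine le_antisymm ?_ ((Subgroup.closure_le _).2 fun M hM => hΘgen M hM.1 hM.2.1 hM.2.2.1 hM.2.2.2)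
    rintro _ ⟨k, rfl⟩
    refine Subgroup.subset_closure ?_
    show (Θ₀ k).1 1 0 = 0 ∧ (Θ₀ k).1 2 0 = 0 ∧ (Θ₀ k).1 2 1 = 0 ∧ (Θ₀ k).1 2 2 = 1
    simp [Θ₀, trans_val, block_val, hσ, Matrix.SpecialLinearGroup.coe_mul, Matrix.mul_apply, Fin.sum_univ_three]
  exact InvolvesDihedral.of_surjective ((MulEquiv.subgroupCongr hrange).toMonoidHom.comp Θ.rangeRestrict)
    ((MulEquiv.subgroupCongr hrange).surjective.comp Θ.rangeRestrict_surjective)

/-- `F(p)` as a section, from a `p`-element and a second element acting on pairs. -/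
theorem involves_fOver (hp : p ≠ 2) {G : Type*} [Group G] [Finite G] (U : Subgroup G)
    (χ : U → ZMod p × ZMod p) (hχ : ∀ u v : U, χ (u * v) = χ u + χ v) (hsurj : Function.Surjective χ)
    {a h : G} (hap : IsPGroup p (Subgroup.zpowers a)) (haU : a ∈ Subgroup.normalizer (U : Set G))
    (hhU : h ∈ Subgroup.normalizer (U : Set G)) {μ : ZMod p} (hμ : orderOf μ = p - 1)
    (ha : ∀ (u : U) (hm : a * (u : G) * a⁻¹ ∈ U), χ ⟨_, hm⟩ = ((χ u).1 + (χ u).2, (χ u).2))
    (hh : ∀ (u : U) (hm : h * (u : G) * h⁻¹ ∈ U), χ ⟨_, hm⟩ = (μ * (χ u).1, μ⁻¹ * (χ u).2)) :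
    Cfsg.Involves ↥(Cfsg.fOver (ZMod p)) G := by
  have hμ0 : μ ≠ 0 := by
    intro e
    have := (Fact.out : p.Prime).two_le
    rw [e, orderOf_eq_zero_iff'.2 (fun n hn => by simp [zero_pow hn.ne'])] at hμ
    omega
  have hN : ∀ {g : G}, g ∈ Subgroup.normalizer (U : Set G) → ∀ u : U, g * (u : G) * g⁻¹ ∈ U :=
    fun hg u => (Subgroup.mem_normalizer_iff.1 hg _).1 u.2
  let Λ : Subgroup G :=
    { carrier := {x | x ∈ Subgroup.normalizer (U : Set G) ∧ ∃ m : SL(2, ZMod p), m.1 1 0 = 0 ∧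
        ∀ (u : U) (hm : x * (u : G) * x⁻¹ ∈ U), χ ⟨_, hm⟩ = act m (χ u)}
      one_mem' := ⟨one_mem _, 1, by simp, fun u hm => by
        rw [act_one]; congr 1; exact Subtype.ext (by simp)⟩
      mul_mem' := by
        rintro x y ⟨hx, m, hm0, hxm⟩ ⟨hy, n, hn0, hyn⟩
        refine ⟨mul_mem hx hy, m * n, by simp [Fusion.Dickson.sl_mul_apply, hm0, hn0], fun u hm => ?_⟩
        rw [act_mul, ← hyn u (hN hy u), ← hxm ⟨_, hN hy u⟩ (hN hx _)]
        congr 1
        exact Subtype.ext (by simp [mul_assoc])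
      inv_mem' := by
        rintro x ⟨hx, m, hm0, hxm⟩
        refine ⟨inv_mem hx, m⁻¹, by simp [Matrix.SpecialLinearGroup.coe_inv, Matrix.adjugate_fin_two, hm0],
          fun u hm => ?_⟩
        have e := hxm ⟨_, hm⟩ (hN hx _)
        rw [show (⟨x * (x⁻¹ * (u : G) * x⁻¹⁻¹) * x⁻¹, hN hx ⟨_, hm⟩⟩ : U) = u from Subtype.ext (by group)] at e
        rw [e, ← act_mul, inv_mul_cancel, act_one] }
  have hUΛ : U ≤ Λ := fun v hv => ⟨Subgroup.le_normalizer hv, 1, by simp, fun u hm => by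
    rw [act_one]
    have e1 := hχ ⟨_, hm⟩ ⟨v, hv⟩
    rw [show (⟨_, hm⟩ : U) * ⟨v, hv⟩ = ⟨v, hv⟩ * u from Subtype.ext (by simp), hχ, add_comm] at e1
    exact (add_right_cancel e1).symm⟩
  haveI : (U.subgroupOf Λ).Normal := ⟨fun v hv g => (Subgroup.mem_normalizer_iff.1 g.2.1 _).1 hv⟩
  choose σ₀ hσ10 hσ using fun g : Λ => g.2.2
  have huniq : ∀ (g : Λ) (m : SL(2, ZMod p)),
      (∀ (u : U) (hm : (g : G) * (u : G) * (g : G)⁻¹ ∈ U), χ ⟨_, hm⟩ = act m (χ u)) → σ₀ g = m := by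
    intro g m hg
    refine act_injective fun v => ?_
    obtain ⟨u, rfl⟩ := hsurj v
    rw [← hσ g u (hN g.2.1 u), hg u]
  let σ : Λ →* SL(2, ZMod p) := MonoidHom.mk' σ₀ (fun g g' => huniq _ _ fun u hm => by
    rw [act_mul, ← hσ g' u (hN g'.2.1 u), ← hσ g ⟨_, hN g'.2.1 u⟩ (hN g.2.1 _)]
    congr 1
    exact Subtype.ext (by simp [mul_assoc]))
  have haΛ : a ∈ Λ := ⟨haU, up 1, by simp [up_val], fun u hm => by rw [ha u hm]; simp [act, up_val]⟩
  let d : SL(2, ZMod p) := ⟨!![μ, 0; 0, μ⁻¹], by simp [Matrix.det_fin_two_of, hμ0]⟩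
  have hdv : d.1 = !![μ, 0; 0, μ⁻¹] := rfl
  have hhΛ : h ∈ Λ := ⟨hhU, d, by simp [hdv], fun u hm => by rw [hh u hm]; simp [act, hdv]⟩
  let χ' : U.subgroupOf Λ → ZMod p × ZMod p := fun u => χ ⟨((u : Λ) : G), u.2⟩
  have hres : Cfsg.Involves ↥(Cfsg.fOver (ZMod p)) Λ := by
    refine involves_fOver_of_triangular hp (U.subgroupOf Λ) χ' (fun u v => hχ ⟨((u : Λ) : G), u.2⟩ ⟨((v : Λ) : G), v.2⟩)
      (fun v => ?_) σ hσ10 (fun g u hm => hσ g ⟨((u : Λ) : G), u.2⟩ hm) (a := ⟨a, haΛ⟩) (h := ⟨h, hhΛ⟩) ?_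
      (huniq _ _ fun u hm => by rw [ha u hm]; simp [act, up_val]) hμ ?_
    · obtain ⟨u, hu⟩ := hsurj v
      exact ⟨⟨⟨u, hUΛ u.2⟩, u.2⟩, hu⟩
    · intro y
      obtain ⟨i, hi⟩ := Subgroup.mem_zpowers_iff.1 y.2
      obtain ⟨k, hk⟩ := hap ⟨((y : Λ) : G), i, by show a ^ i = _; rw [← hi]; rfl⟩
      exact ⟨k, Subtype.ext (Subtype.ext (congrArg Subtype.val hk :))⟩
    · show (σ₀ ⟨h, hhΛ⟩).1 0 0 = μ
      rw [huniq ⟨h, hhΛ⟩ d fun u hm => by rw [hh u hm]; simp [act, hdv]]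
      simp [hdv]
  obtain ⟨K, f, hf⟩ := InvolvesDihedral.exists_surjective hres
  exact InvolvesDihedral.of_surjective (f.comp (K.equivMapOfInjective Λ.subtype Λ.subtype_injective).symm.toMonoidHom)
    (hf.comp (MulEquiv.surjective _))

/-- An eigen-element modulo an invariant subgroup gives one of order `p`. -/
theorem exists_eigen_element {G : Type*} [Group G] [Finite G] {A A₀ : Subgroup G} [IsMulCommutative A]
    (hA : IsPGroup p A) (hA₀ : A₀ ≤ A) {x : G} (hxA : x ∈ Subgroup.normalizer (A : Set G))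
    (hxA₀ : x ∈ Subgroup.normalizer (A₀ : Set G)) {c₀ : G} (hc₀ : c₀ ∈ A) (hc₀' : c₀ ∉ A₀) {r : ℕ}
    (he : x * c₀ * x⁻¹ * (c₀ ^ r)⁻¹ ∈ A₀) : ∃ c ∈ A, orderOf c = p ∧ x * c * x⁻¹ = c ^ r := by
  have hm : ∀ u : A, x * (u : G) * x⁻¹ * ((u : G) ^ r)⁻¹ ∈ A := fun u =>
    mul_mem ((Subgroup.mem_normalizer_iff.1 hxA _).1 u.2) (inv_mem (pow_mem u.2 r))
  have hcomm : ∀ s ∈ A, ∀ t ∈ A, s * t = t * s := fun s hs t ht =>
    congrArg Subtype.val (mul_comm' (⟨s, hs⟩ : A) ⟨t, ht⟩)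
  let ψ : A →* A := MonoidHom.mk' (fun u => ⟨_, hm u⟩) (fun u v => Subtype.ext (by
    show x * ((u : G) * v) * x⁻¹ * (((u : G) * v) ^ r)⁻¹ =
      x * (u : G) * x⁻¹ * ((u : G) ^ r)⁻¹ * (x * (v : G) * x⁻¹ * ((v : G) ^ r)⁻¹)
    rw [(show Commute (u : G) v from hcomm _ u.2 _ v.2).mul_pow, _root_.mul_inv_rev]
    have e := hcomm _ (inv_mem (pow_mem u.2 r)) _ (hm v)
    rw [mul_assoc _ ((u : G) ^ r)⁻¹, e]
    group))
  have hker : ∃ u : A, u ≠ 1 ∧ ψ u = 1 := by
    by_contra hno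
    push Not at hno
    have hinj : Function.Injective ψ := (injective_iff_map_eq_one ψ).2 fun u hu => by_contra fun hne => hno u hne hu
    let T := A₀.subgroupOf A
    have hle : T.map ψ ≤ T := by
      rintro _ ⟨u, hu, rfl⟩
      exact mul_mem ((Subgroup.mem_normalizer_iff.1 hxA₀ _).1 hu) (inv_mem (pow_mem hu r))
    have heq := Subgroup.eq_of_le_of_card_ge hle (by rw [Subgroup.card_map_of_injective hinj])
    obtain ⟨u, hu, hu'⟩ : ψ ⟨c₀, hc₀⟩ ∈ T.map ψ := by rw [heq]; exact he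
    exact hc₀' (by simpa [hinj hu', T, Subgroup.mem_subgroupOf] using hu)
  obtain ⟨u, hu1, hu⟩ := hker
  obtain ⟨k, hk⟩ := IsPGroup.iff_orderOf.1 hA u
  have hk0 : k ≠ 0 := by rintro rfl; exact hu1 (orderOf_eq_one_iff.1 (by simpa using hk))
  set v := u ^ p ^ (k - 1) with hv
  refine ⟨v, v.2, ?_, ?_⟩
  · rw [Subgroup.orderOf_coe, hv, orderOf_pow_of_dvd (pow_ne_zero _ (Fact.out : p.Prime).ne_zero)
      (hk ▸ pow_dvd_pow p (Nat.sub_le k 1)), hk, Nat.pow_div (Nat.sub_le k 1) (Fact.out : p.Prime).pos,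
      show k - (k - 1) = 1 by omega, pow_one]
  · have : ψ v = 1 := by rw [hv, map_pow, hu, one_pow]
    exact mul_inv_eq_one.1 (congrArg Subtype.val this)

/-- The automizer in `H` of a subgroup of order `p` with an element inducing a generator. -/
theorem relIndex_eq {G₀ : Type*} [Group G₀] [Finite G₀] (H : Subgroup G₀) {c x : G₀} (hc : orderOf c = p) (hx : x ∈ H) {r : ℕ}
    (he : x * c * x⁻¹ = c ^ r) (hr : orderOf (r : ZMod p) = p - 1) :
    (H ⊓ Subgroup.centralizer (Subgroup.zpowers c : Set G₀)).relIndex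
      (H ⊓ Subgroup.normalizer (Subgroup.zpowers c : Set G₀)) = p - 1 := by
  set C := Subgroup.zpowers c with hC
  set N := H ⊓ Subgroup.normalizer (C : Set G₀) with hN
  have hcard : Nat.card C = p := by rw [hC, Nat.card_zpowers, hc]
  let θ : N →* MulAut C := C.normalizerMonoidHom.comp (Subgroup.inclusion inf_le_right)
  have hker : θ.ker = (H ⊓ Subgroup.centralizer (C : Set G₀)).subgroupOf N := by
    ext g
    rw [MonoidHom.mem_ker, Subgroup.mem_subgroupOf, Subgroup.mem_inf,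
      and_iff_right (Subgroup.mem_inf.1 g.2).1, Subgroup.mem_centralizer_iff]
    constructor
    · intro h t ht
      have := congrArg Subtype.val (MulEquiv.congr_fun h ⟨t, ht⟩)
      exact (mul_inv_eq_iff_eq_mul.1 this).symm
    · intro h
      refine MulEquiv.ext fun t => Subtype.ext ?_
      show (g : G₀) * (t : G₀) * (g : G₀)⁻¹ = t
      rw [mul_inv_eq_iff_eq_mul, h t t.2]
  rw [Subgroup.relIndex, ← hker, Subgroup.index_ker]
  haveI : IsCyclic C := isCyclic_of_prime_card hcard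
  have hle : Nat.card θ.range ∣ p - 1 := by
    have e := Subgroup.card_subgroup_dvd_card θ.range
    have e2 : Nat.card (MulAut C) = Nat.card (ZMod p)ˣ := by
      have h0 := Nat.card_congr (IsCyclic.mulAutMulEquiv C).toEquiv
      rw [hcard] at h0
      omega
    rwa [e2, Nat.card_eq_fintype_card (α := (ZMod p)ˣ), ZMod.card_units] at e
  have hxN : x ∈ N := by
    refine Subgroup.mem_inf.2 ⟨hx, Subgroup.mem_normalizer_fintype fun t ht => ?_⟩
    obtain ⟨i, rfl⟩ := ht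
    show x * c ^ i * x⁻¹ ∈ C
    rw [← conj_zpow, he]
    exact zpow_mem (pow_mem (Subgroup.mem_zpowers c) r) i
  refine Nat.dvd_antisymm hle ?_
  set n := Nat.card θ.range
  have h1 : θ ⟨x, hxN⟩ ^ n = 1 :=
    congrArg Subtype.val (pow_card_eq_one' (x := (⟨_, ⟨x, hxN⟩, rfl⟩ : θ.range)))
  have h2 : ∀ m : ℕ, x ^ m * c * (x ^ m)⁻¹ = c ^ r ^ m := by
    intro m
    induction m with
    | zero => simp
    | succ m ih =>
      calc x ^ (m + 1) * c * (x ^ (m + 1))⁻¹ = x ^ m * (x * c * x⁻¹) * (x ^ m)⁻¹ := by rw [pow_succ]; group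
        _ = (x ^ m * c * (x ^ m)⁻¹) ^ r := by rw [he, conj_pow]
        _ = _ := by rw [ih, ← pow_mul, pow_succ]
  have h3 : c ^ r ^ n = c ^ 1 := by
    rw [← map_pow] at h1
    have := congrArg Subtype.val (MulEquiv.congr_fun h1 ⟨c, Subgroup.mem_zpowers c⟩)
    rw [pow_one, ← h2]
    exact this
  rw [← hr]
  apply orderOf_dvd_of_pow_eq_one
  rw [← Nat.cast_pow, ← Nat.cast_one, ZMod.natCast_eq_natCast_iff, ← hc]
  exact pow_eq_pow_iff_modEq.1 h3

end CfsgLib.LocalEven.AutomizerControl
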