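import Cfsg.Agent.Lib.LocalEven.AutomizerControl.Config
import Cfsg.Agent.Lib.LocalEven.AutomizerControl.Climb
import Cfsg.Agent.Lib.LocalEven.AutomizerControl.Section

/-!
For odd `p`: when the normalizer of `Z(J(S))` does not control fusion in `S`, it involves `F(p)` and has an
element inducing the full automorphism group on a subgroup of order `p` of `Z(J(S))`.
-/

set_option autoImplicit false
set_option linter.unusedSectionVars false
set_option linter.style.haveILetI false

namespace CfsgLib.LocalEven.AutomizerControl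

open CfsgLib.LocalEven.SylowIn CfsgLib.Fusion.ZJGeneral CfsgLib.Fusion.QuadStable Cfsg
open scoped commutatorElement IsMulCommutative

universe u

variable {G : Type u} [Group G] [Finite G] {p : ℕ} [Fact p.Prime]

/-- The conclusion. -/
def Conclusion (p : ℕ) [Fact p.Prime] {G : Type u} [Group G] (S : Subgroup G) : Prop :=
  Cfsg.Involves ↥(Cfsg.fOver (ZMod p)) ↥(zjN S) ∧
    ∃ c ∈ zj S, ∃ x ∈ zjN S, ∃ r : ℕ, orderOf c = p ∧ x * c * x⁻¹ = c ^ r ∧ orderOf (r : ZMod p) = p - 1

theorem exists_orderOf_eq : ∃ μ : ZMod p, orderOf μ = p - 1 := by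
  obtain ⟨g, hg⟩ := IsCyclic.exists_ofOrder_eq_natCard (α := (ZMod p)ˣ)
  exact ⟨g, by rw [orderOf_units, hg, Nat.card_eq_fintype_card, ZMod.card_units]⟩

set_option maxHeartbeats 800000 in
theorem IsConfig.conclusion (hp : p ≠ 2) {S : Sylow p G} {W₀ : Subgroup G} [W₀.Normal] {z : G}
    {M P : Subgroup G} (hs : IsSetup p S W₀ z) (hz₀ : z ∉ W₀) (hc : IsConfig S W₀ z M P) :
    Conclusion p (S : Subgroup G) := by
  set H := zjN (S : Subgroup G) with hH
  set B := zClosure W₀ z M with hB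
  set T := pCoreOf p M with hT
  set π := QuotientGroup.mk' W₀ with hπ
  have hBT : B ≤ T := hc.zClosure_le
  have hTS : T ≤ (S : Subgroup G) := hc.core_le.trans hc.le_S
  have hMB : M ≤ Subgroup.normalizer (B : Set G) := le_normalizer_zClosure
  set Bb := B.map π with hBb
  haveI : IsMulCommutative Bb := IsMulCommutative.of_comm fun u v => by
    obtain ⟨_, b, hb, rfl⟩ := u
    obtain ⟨_, b', hb', rfl⟩ := v
    exact Subtype.ext (hc.comm_zClosure hs hb' (hBT hb))
  have hMb : M.map π ≤ Subgroup.normalizer (Bb : Set (G ⧸ W₀)) :=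
    (Subgroup.map_mono hMB).trans (Subgroup.le_normalizer_map π)
  set ρ := (conjEnd Bb (M.map π) hMb).comp (π.subgroupMap M) with hρ
  have hρv : ∀ (m : M) (u : Additive Bb),
      ((Additive.toMul ((ρ m : AddMonoid.End (Additive Bb)) u) : Bb) : G ⧸ W₀) =
        π m * ((Additive.toMul u : Bb) : G ⧸ W₀) * (π m)⁻¹ := fun m u => conjEnd_apply Bb (M.map π) hMb _ u
  have hinj : ∀ u v : Additive Bb, ((Additive.toMul u : Bb) : G ⧸ W₀) = ((Additive.toMul v : Bb) : G ⧸ W₀) →
      u = v := fun u v e => Additive.toMul.injective (Subtype.ext e)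
  have hY : ∀ u : Additive Bb, p • u = 0 := fun u => by
    refine hinj _ _ ?_
    obtain ⟨⟨_, b, hb, rfl⟩, rfl⟩ := Additive.ofMul.surjective u
    rw [toMul_nsmul, Subgroup.coe_pow, toMul_zero, Subgroup.coe_one]
    exact hc.pow_zClosure hs hb
  have hquad : ∀ m : M, (∀ b ∈ B, Commute (π m) (π ((m : G) * b * (m : G)⁻¹ * b⁻¹))) → IsQuad ρ m := by
    intro m hm u
    refine hinj _ _ ?_
    obtain ⟨⟨_, b, hb, rfl⟩, rfl⟩ := Additive.ofMul.surjective u
    rw [hρv, toMul_sub, div_eq_mul_inv, Subgroup.coe_mul, Subgroup.coe_inv, hρv]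
    have h1 := (hm b hb).eq
    simp only [map_mul, map_inv] at h1
    simp only [toMul_ofMul]
    rw [h1, mul_inv_cancel_right]
  -- the subgroup of elements agreeing with `H`
  have hagree : ∀ m : M, Good S W₀ z m → Agree H T m := fun m h =>
    hs.agree_of_good_normalizer hTS (normalizer_pCoreOf M m.2) h
  let H₁ : Subgroup M :=
    { carrier := {m | Good S W₀ z m}
      one_mem' := ⟨1, one_mem _, by simp [one_mem]⟩
      mul_mem' := by
        intro a b ha hb
        obtain ⟨xa, hxa, hea⟩ := hagree a ha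
        obtain ⟨xb, hxb, heb⟩ := hagree b hb
        refine good_of_agree hc.z_mem ⟨xa * xb, mul_mem hxa hxb, fun t ht => ?_⟩
        rw [Subgroup.coe_mul]
        calc (a : G) * b * t * ((a : G) * b)⁻¹ = a * (b * t * (b : G)⁻¹) * (a : G)⁻¹ := by group
          _ = xa * (b * t * (b : G)⁻¹) * xa⁻¹ :=
            hea _ (conj_mem_of_mem_normalizer (normalizer_pCoreOf M b.2) ht)
          _ = _ := by rw [heb t ht]; group
      inv_mem' := by
        intro a ha
        obtain ⟨xa, hxa, hea⟩ := hagree a ha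
        refine good_of_agree hc.z_mem ⟨xa⁻¹, inv_mem hxa, fun t ht => ?_⟩
        have h1 := hea _ (conj_mem_of_mem_normalizer (normalizer_pCoreOf M (inv_mem a.2)) ht)
        rw [show (a : G) * ((a : G)⁻¹ * t * (a : G)⁻¹⁻¹) * (a : G)⁻¹ = t by group] at h1
        rw [Subgroup.coe_inv]
        calc (a : G)⁻¹ * t * (a : G)⁻¹⁻¹ = xa⁻¹ * (xa * ((a : G)⁻¹ * t * (a : G)⁻¹⁻¹) * xa⁻¹) * xa⁻¹⁻¹ := by
              group
          _ = _ := by rw [← h1] }
  set Pm := hc.syl.toSylow with hPm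
  have hPmem : ∀ x : M, x ∈ (Pm : Subgroup M) → (x : G) ∈ P := fun x hx => hx
  have hH₁ : H₁ ≠ ⊤ := by
    intro e
    obtain ⟨m, hm, hb⟩ := hc.bad
    exact hb (show (⟨m, hm⟩ : M) ∈ H₁ by rw [e]; trivial)
  have hover : ∀ K : Subgroup M, (Pm : Subgroup M) ≤ K → K ≠ ⊤ → K ≤ H₁ := by
    intro K hPK hK x hx
    refine hc.min (K.map M.subtype) (Subgroup.map_subtype_le K) (fun y hy => ⟨⟨y, hc.syl.1 hy⟩, hPK hy, rfl⟩)
      (fun e => hK ?_) x ⟨x, hx, rfl⟩
    apply Subgroup.map_injective M.subtype_injective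
    rw [e, ← MonoidHom.range_eq_map, Subgroup.range_subtype]
  haveI := pCore_normal ↥M p
  have hcore : ∀ U : Subgroup M, U.Normal → pCore p M ≤ U → IsPGroup p U → U = pCore p M := fun U hU hle hUp =>
    le_antisymm (le_pCore hUp) hle
  have hfix : ∀ t ∈ pCore p M, ∀ u : Additive Bb, (ρ t : AddMonoid.End (Additive Bb)) u = u := by
    intro t ht u
    refine hinj _ _ ?_
    obtain ⟨⟨_, b, hb, rfl⟩, rfl⟩ := Additive.ofMul.surjective u
    rw [hρv, mul_inv_eq_iff_eq_mul]
    exact hc.comm_zClosure hs hb ⟨t, ht, rfl⟩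
  have hex : ∃ a ∈ (Pm : Subgroup M), IsQuad ρ a ∧ a ∉ pCore p M := by
    obtain ⟨a, haP, haT, ha⟩ := hc.exists_quad hp hs
    exact ⟨⟨a, hc.syl.1 haP⟩, haP, hquad _ ha, fun h => haT ⟨_, h, rfl⟩⟩
  have hQ : ∀ g x : M, IsQuad ρ x → IsQuad ρ (g * x * g⁻¹) := fun g x hx u => by
    have hg : ∀ y : Additive Bb, (ρ g : AddMonoid.End (Additive Bb)) ((ρ g⁻¹ : AddMonoid.End (Additive Bb)) y) = y :=
      fun y => by
        show ((ρ g * ρ g⁻¹ : (AddMonoid.End (Additive Bb))ˣ) : AddMonoid.End (Additive Bb)) y = y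
        rw [← map_mul, mul_inv_cancel, map_one]; rfl
    have hg' : ∀ y : Additive Bb, (ρ g⁻¹ : AddMonoid.End (Additive Bb)) ((ρ g : AddMonoid.End (Additive Bb)) y) = y :=
      fun y => by
        show ((ρ g⁻¹ * ρ g : (AddMonoid.End (Additive Bb))ˣ) : AddMonoid.End (Additive Bb)) y = y
        rw [← map_mul, inv_mul_cancel, map_one]; rfl
    have e : ∀ y : Additive Bb, (ρ (g * x * g⁻¹) : AddMonoid.End (Additive Bb)) y =
        (ρ g : AddMonoid.End (Additive Bb)) ((ρ x : AddMonoid.End (Additive Bb))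
          ((ρ g⁻¹ : AddMonoid.End (Additive Bb)) y)) := fun y => by rw [map_mul, map_mul]; rfl
    rw [e, e, map_sub (ρ g⁻¹ : AddMonoid.End (Additive Bb)), hg']
    conv_lhs => rw [hx ((ρ g⁻¹ : AddMonoid.End (Additive Bb)) u), map_sub, hg]
  obtain ⟨a, b, haP, ha, hb, -, hbH, hloc⟩ := exists_pair_over Pm (pCore p M) H₁ hH₁ hover hcore
    (CfsgLib.Solvable.Cores.pCore_le_sylow Pm) (IsQuad ρ) hQ (fun x hx u => by rw [hfix x hx, hfix x hx]) hex
  -- the invariant submodule and the vector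
  let X : AddSubgroup (Additive Bb) :=
    { carrier := {u | ((Additive.toMul u : Bb) : G ⧸ W₀) ∈ (B ⊓ zj (S : Subgroup G)).map π}
      zero_mem' := ⟨1, one_mem _, by simp⟩
      add_mem' := fun {u v} hu hv => by
        show ((Additive.toMul (u + v) : Bb) : G ⧸ W₀) ∈ (B ⊓ zj (S : Subgroup G)).map π
        rw [toMul_add, Subgroup.coe_mul]
        exact mul_mem hu hv
      neg_mem' := fun {u} hu => by
        show ((Additive.toMul (-u) : Bb) : G ⧸ W₀) ∈ (B ⊓ zj (S : Subgroup G)).map π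
        rw [toMul_neg, Subgroup.coe_inv]
        exact inv_mem hu }
  have hX : ∀ m ∈ H₁, ∀ u ∈ X, (ρ m : AddMonoid.End (Additive Bb)) u ∈ X := by
    intro m hm u hu
    obtain ⟨x, hx, he⟩ := hagree m hm
    obtain ⟨v, hv, hve⟩ := hu
    refine ⟨(m : G) * v * (m : G)⁻¹, Subgroup.mem_inf.2 ⟨conj_mem_of_mem_normalizer (hMB m.2) hv.1, ?_⟩, ?_⟩
    · rw [he v (hBT hv.1)]
      exact conj_mem_of_mem_normalizer hx hv.2
    · rw [hρv, map_mul, map_mul, map_inv, hve]
  set zY : Additive Bb := Additive.ofMul ⟨π z, Subgroup.mem_map_of_mem π mem_zClosure⟩ with hzY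
  have hzX : zY ∈ X := ⟨z, Subgroup.mem_inf.2 ⟨mem_zClosure, hs.mem⟩, rfl⟩
  have hzP : ∀ x ∈ (Pm : Subgroup M), (ρ x : AddMonoid.End (Additive Bb)) zY = zY := fun x hx => by
    refine hinj _ _ ?_
    rw [hρv, mul_inv_eq_iff_eq_mul]
    exact hs.comm_bar (hc.le_S (hPmem x hx))
  have hz : ∀ m : M, (ρ m : AddMonoid.End (Additive Bb)) zY = zY → m ∈ H₁ := fun m hm => by
    refine ⟨1, one_mem _, ?_⟩
    rw [inv_one, one_mul, mem_stab, ← QuotientGroup.eq_one_iff]
    show π ⁅(m : G), z⁆ = 1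
    have := hρv m zY
    rw [hm] at this
    rw [map_commutatorElement, commutatorElement_eq_one_iff_mul_comm]
    exact (mul_inv_eq_iff_eq_mul.1 this.symm)
  obtain ⟨μ, hμ⟩ := exists_orderOf_eq (p := p)
  obtain ⟨h, hhH, ⟨c, hcX, hc0, hhc⟩, D, χ, hDa, hDh, hχs, hχ⟩ := exists_torus hp hY ρ Pm H₁
    (hover _ le_rfl fun e => by
      obtain ⟨w, hw, -, hwT⟩ := hex
      exact hwT (hcore ⊤ inferInstance le_top (e ▸ Pm.2) ▸ Subgroup.mem_top w))
    haP ha hb hbH hloc X hX hzX hzP hz μ hμ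
  obtain ⟨x, hx, hxe⟩ := hagree h hhH
  have haS : (a : G) ∈ (S : Subgroup G) := hc.le_S (hPmem a haP)
  have haH : (a : G) ∈ H := le_zjN _ haS
  refine ⟨?_, ?_⟩
  · let toY : ∀ g : G, g ∈ B → Additive Bb := fun g hg => Additive.ofMul ⟨π g, Subgroup.mem_map_of_mem π hg⟩
    let U : Subgroup H :=
      { carrier := {u | ∃ hu : (u : G) ∈ B, toY u hu ∈ D}
        one_mem' := ⟨one_mem _, by
          convert D.zero_mem using 1
          exact hinj _ _ (by simp [toY])⟩
        mul_mem' := fun {u v} ⟨hu, hu'⟩ ⟨hv, hv'⟩ => ⟨mul_mem hu hv, by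
          convert D.add_mem hu' hv' using 1
          exact hinj _ _ (by simp [toY])⟩
        inv_mem' := fun {u} ⟨hu, hu'⟩ => ⟨inv_mem hu, by
          convert D.neg_mem hu' using 1
          exact hinj _ _ (by simp [toY])⟩ }
    have hconj : ∀ (g : H) (m : M), (∀ t ∈ T, (g : G) * t * (g : G)⁻¹ = (m : G) * t * (m : G)⁻¹) →
        ∀ (u : G) (hu : u ∈ B), ∃ hu' : (g : G) * u * (g : G)⁻¹ ∈ B,
          toY _ hu' = (ρ m : AddMonoid.End (Additive Bb)) (toY u hu) := by
      intro g m hg u hu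
      have h1 : (g : G) * u * (g : G)⁻¹ ∈ B := by rw [hg u (hBT hu)]; exact conj_mem_of_mem_normalizer (hMB m.2) hu
      refine ⟨h1, hinj _ _ ?_⟩
      rw [hρv]
      show π ((g : G) * u * (g : G)⁻¹) = π m * π u * (π m)⁻¹
      rw [hg u (hBT hu), map_mul, map_mul, map_inv]
    let χ' : U → ZMod p × ZMod p := fun u => χ ⟨toY (u : H) u.2.1, u.2.2⟩
    let xH : H := ⟨x, hx⟩
    let aH : H := ⟨a, haH⟩
    have hnorm : ∀ (g : H) (m : M), (∀ t ∈ T, (g : G) * t * (g : G)⁻¹ = (m : G) * t * (m : G)⁻¹) →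
        (∀ y ∈ D, (ρ m : AddMonoid.End (Additive Bb)) y ∈ D) → g ∈ Subgroup.normalizer (U : Set H) := by
      intro g m hg hD
      refine Subgroup.mem_normalizer_fintype fun u hu => ?_
      obtain ⟨h1, h2⟩ := hconj g m hg _ hu.1
      exact ⟨h1, by
        show toY _ h1 ∈ D
        rw [h2]; exact hD _ hu.2⟩
    refine involves_fOver hp U χ' (fun u v => ?_) (fun v => ?_) (a := aH) (h := xH) ?_
      (hnorm aH a (fun t _ => rfl) hDa) (hnorm xH h (fun t ht => (hxe t ht).symm) hDh) hμ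
      (fun u hm => ?_) (fun u hm => ?_)
    · show χ _ = χ _ + χ _
      rw [← map_add]
      rfl
    · obtain ⟨⟨y, hy⟩, rfl⟩ := hχs v
      obtain ⟨⟨_, w, hw, rfl⟩, rfl⟩ := Additive.ofMul.surjective y
      exact ⟨⟨⟨w, le_zjN _ (hTS (hBT hw))⟩, hw, hy⟩, rfl⟩
    · refine (S.2.comap_of_injective H.subtype H.subtype_injective).to_le ?_
      rw [Subgroup.zpowers_le]
      exact haS
    · obtain ⟨h1, h2⟩ := hconj aH a (fun t _ => rfl) _ u.2.1
      show χ _ = _
      rw [show (⟨toY _ hm.1, hm.2⟩ : D) = ⟨_, hDa _ u.2.2⟩ from Subtype.ext h2]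
      exact (hχ ⟨_, u.2.2⟩).1
    · obtain ⟨h1, h2⟩ := hconj xH h (fun t ht => (hxe t ht).symm) _ u.2.1
      show χ _ = _
      rw [show (⟨toY _ hm.1, hm.2⟩ : D) = ⟨_, hDh _ u.2.2⟩ from Subtype.ext h2]
      exact (hχ ⟨_, u.2.2⟩).2
  · obtain ⟨c₀, hc₀, hce⟩ := hcX
    have hcW : c₀ ∉ W₀ := fun h => hc0 (hinj _ _ (by
      rw [← hce, toMul_zero, Subgroup.coe_one]; exact (QuotientGroup.eq_one_iff c₀).2 h))
    have hA : IsPGroup p (B ⊓ zj (S : Subgroup G) : Subgroup G) := S.2.to_le (inf_le_right.trans (Z_le _))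
    haveI : IsMulCommutative (B ⊓ zj (S : Subgroup G) : Subgroup G) :=
      IsMulCommutative.of_comm fun u v => Subtype.ext (zj_comm u.2.2 v.2.2)
    have hxA : x ∈ Subgroup.normalizer ((B ⊓ zj (S : Subgroup G) : Subgroup G) : Set G) :=
      Subgroup.mem_normalizer_fintype fun u hu => Subgroup.mem_inf.2
        ⟨by rw [← hxe u (hBT hu.1)]; exact conj_mem_of_mem_normalizer (hMB h.2) hu.1,
          conj_mem_of_mem_normalizer hx hu.2⟩
    obtain ⟨d, hd, hdo, hde⟩ := exists_eigen_element hA (le_inf le_sup_right hs.le_zj) hxA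
      (by rw [Subgroup.normalizer_eq_top]; trivial : x ∈ Subgroup.normalizer (W₀ : Set G)) hc₀ hcW (r := μ.val) (by
        rw [← hxe c₀ (hBT hc₀.1), ← QuotientGroup.eq_one_iff]
        show π _ = 1
        rw [map_mul, map_inv, map_pow, map_mul, map_mul, map_inv, hce, ← hρv h c, hhc, toMul_nsmul,
          Subgroup.coe_pow, mul_inv_cancel])
    exact ⟨d, hd.2, x, hx, μ.val, hdo, hde, by rwa [ZMod.natCast_zmod_val]⟩

/-- A lift of the conclusion from a subgroup containing `S`. -/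
theorem Conclusion.lift {K : Subgroup G} {S : Sylow p G} (hSK : (S : Subgroup G) ≤ K)
    (h : Conclusion p ((S.subtype hSK : Sylow p K) : Subgroup K)) : Conclusion p (S : Subgroup G) := by
  set S₁ := ((S.subtype hSK : Sylow p K) : Subgroup K) with hS₁
  have hmap : S₁.map K.subtype = (S : Subgroup G) := by
    rw [hS₁, Sylow.coe_subtype, Subgroup.map_subgroupOf_eq_of_le hSK]
  have hzj : (zj S₁).map K.subtype = zj (S : Subgroup G) := by
    rw [← zj_eq, ← zj_eq, ← CfsgLib.Fsys.centerThompsonAOf_map K.subtype K.subtype_injective, hmap]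
  have hle : ∀ x ∈ zjN S₁, (x : G) ∈ zjN (S : Subgroup G) := fun x hx => by
    rw [zjN, ← hzj]; exact Subgroup.le_normalizer_map K.subtype ⟨x, hx, rfl⟩
  obtain ⟨hinv, c, hc, x, hx, r, ho, he, hr⟩ := h
  refine ⟨?_, c, hzj ▸ ⟨c, hc, rfl⟩, x, hle x hx, r, by rwa [Subgroup.orderOf_coe],
    by rw [← Subgroup.coe_pow, ← he]; rfl, hr⟩
  obtain ⟨L, f, hf⟩ := InvolvesDihedral.exists_surjective hinv
  let ι : zjN S₁ →* zjN (S : Subgroup G) :=
    MonoidHom.mk' (fun x => ⟨(x : K), hle x x.2⟩) (fun _ _ => rfl)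
  have hι : Function.Injective ι := fun a b e => Subtype.ext (Subtype.ext (congrArg Subtype.val e :))
  exact InvolvesDihedral.of_surjective (f.comp (L.equivMapOfInjective ι hι).symm.toMonoidHom)
    (hf.comp (MulEquiv.surjective _))

/-- The main theorem. -/
theorem conclusion_of_not_controls (hp : p ≠ 2) (S : Sylow p G)
    (hbad : ¬ ControlsIn (zjN (S : Subgroup G)) (S : Subgroup G) ⊤) : Conclusion p (S : Subgroup G) := by
  suffices h : ∀ n : ℕ, ∀ (G : Type u) [Group G] [Finite G], Nat.card G = n → ∀ S : Sylow p G,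
      ¬ ControlsIn (zjN (S : Subgroup G)) (S : Subgroup G) ⊤ → Conclusion p (S : Subgroup G) from
    h _ G rfl S hbad
  clear hbad S
  intro n
  induction n using Nat.strong_induction_on with
  | _ n ih =>
    intro G _ _ hn S hbad
    have hp' : p.Prime := Fact.out
    set W := zj (S : Subgroup G) with hW
    have hHne : zjN (S : Subgroup G) ≠ ⊤ := fun e => hbad fun A _ g _ _ =>
      ⟨g, e ▸ Subgroup.mem_top g, fun _ _ => rfl⟩
    set C : Set G := {g | (orderOf g).Coprime p} with hC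
    set W₀ := W ⊓ Subgroup.centralizer C with hW₀
    set K := Subgroup.closure C with hK
    haveI hKn : K.Normal := ⟨fun y hy g => by
      suffices h : K.map (MulAut.conj g).toMonoidHom ≤ K from h ⟨y, hy, rfl⟩
      rw [hK, MonoidHom.map_closure, Subgroup.closure_le]
      rintro _ ⟨c, hc, rfl⟩
      refine Subgroup.subset_closure ?_
      show (orderOf ((MulAut.conj g).toMonoidHom c)).Coprime p
      rw [orderOf_injective _ (MulAut.conj g).injective]
      exact hc⟩
    have hquot : IsPGroup p (G ⧸ K) := by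
      intro x
      obtain ⟨g, rfl⟩ := QuotientGroup.mk'_surjective K x
      obtain ⟨j, q, hq, hgq⟩ := Nat.exists_eq_pow_mul_and_not_dvd (orderOf_pos g).ne' p hp'.one_lt.ne'
      refine ⟨j, ?_⟩
      rw [← map_pow]
      refine (QuotientGroup.eq_one_iff _).2 (Subgroup.subset_closure ?_)
      show (orderOf (g ^ p ^ j)).Coprime p
      rw [orderOf_pow_of_dvd (pow_ne_zero _ hp'.ne_zero) (hgq ▸ dvd_mul_right _ _), hgq,
        Nat.mul_div_cancel_left _ (pow_pos hp'.pos _)]
      exact (hp'.coprime_iff_not_dvd.2 hq).symm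
    have hKS : K ⊔ (S : Subgroup G) = ⊤ := by
      have h1 : ((S : Subgroup G)).map (QuotientGroup.mk' K) = ⊤ := by
        rw [← Sylow.coe_mapSurjective (QuotientGroup.mk'_surjective K) S]
        exact ((Sylow.mapSurjective (QuotientGroup.mk'_surjective K) S).3 (hquot.to_subgroup ⊤) le_top).symm
      have h2 := congrArg (Subgroup.comap (QuotientGroup.mk' K)) h1
      rwa [Subgroup.comap_map_eq, QuotientGroup.ker_mk', Subgroup.comap_top, sup_comm] at h2
    haveI : W₀.Normal := by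
      rw [← Subgroup.normalizer_eq_top_iff, eq_top_iff, ← hKS]
      refine sup_le ?_ ?_
      · refine le_trans ?_ (Subgroup.centralizer_le_normalizer _)
        rw [hK, Subgroup.le_centralizer_iff, Subgroup.centralizer_closure]
        exact inf_le_right
      · refine le_normalizer_of_map_conj fun s hs' => ?_
        rw [hW₀, Subgroup.map_inf _ _ _ (MulAut.conj s).injective, map_conj_eq_iff.2 (le_zjN _ hs'),
          map_conj_eq_iff.2 (Subgroup.mem_normalizer_iff.2 fun c => ?_)]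
        rw [← Subgroup.centralizer_closure, ← hK]
        exact Subgroup.mem_normalizer_iff.1 (by rw [Subgroup.normalizer_eq_top]; trivial) c
    -- the element `z`
    set π := QuotientGroup.mk' W₀ with hπ
    have hWne : ¬ W ≤ W₀ := fun hle => hHne (by
      have hWn : W.Normal := by rw [le_antisymm hle (by rw [hW₀]; exact inf_le_left)]; infer_instance
      rw [zjN, ← hW]; exact Subgroup.normalizer_eq_top W)
    obtain ⟨z, hzW, hz₀, hzp, hzS⟩ : ∃ z ∈ W, z ∉ W₀ ∧ z ^ p ∈ W₀ ∧ (S : Subgroup G) ≤ stab W₀ z := by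
      set Sb := (S : Subgroup G).map π with hSb
      set Wb := (W.map π).subgroupOf Sb with hWb
      haveI : Wb.Normal := Subgroup.normal_subgroupOf_of_le_normalizer
        ((Subgroup.map_mono (le_zjN _)).trans (Subgroup.le_normalizer_map π))
      haveI := (S.2.map π : IsPGroup p Sb).isNilpotent
      have hne : Wb ≠ ⊥ := fun e => hWne fun w hw => (QuotientGroup.eq_one_iff w).1 (by
        have h1 : (⟨π w, Subgroup.mem_map_of_mem π (Z_le _ hw)⟩ : Sb) ∈ Wb := ⟨w, hw, rfl⟩
        rw [e, Subgroup.mem_bot] at h1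
        exact congrArg Subtype.val h1)
      have hne' := CfsgLib.Solvable.FrattiniFitting.inf_center_ne_bot Wb hne
      obtain ⟨k, hk⟩ := IsPGroup.iff_card.1 ((S.2.map π).to_subgroup (Wb ⊓ Subgroup.center Sb))
      have hk0 : k ≠ 0 := by
        rintro rfl
        exact hne' (Subgroup.card_eq_one.1 (by rw [hk, pow_zero]))
      obtain ⟨⟨v, hv⟩, hvo⟩ := exists_prime_orderOf_dvd_card' p (hk ▸ dvd_pow_self p hk0)
      rw [Subgroup.orderOf_mk] at hvo
      obtain ⟨w, hw, hwe⟩ := (Subgroup.mem_inf.1 hv).1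
      have hwe' : π w = (v : G ⧸ W₀) := hwe
      refine ⟨w, hw, fun h => ?_, ?_, fun s hs' => mem_stab.2 ?_⟩
      · have : v = 1 := Subtype.ext (hwe'.symm.trans ((QuotientGroup.eq_one_iff w).2 h))
        rw [this, orderOf_one] at hvo
        exact hp'.one_lt.ne hvo
      · rw [← QuotientGroup.eq_one_iff]
        show π (w ^ p) = 1
        rw [map_pow, hwe', ← Subgroup.coe_pow, orderOf_dvd_iff_pow_eq_one.1 hvo.dvd, Subgroup.coe_one]
      · rw [← QuotientGroup.eq_one_iff]
        show π ⁅s, w⁆ = 1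
        rw [map_commutatorElement, commutatorElement_eq_one_iff_mul_comm, hwe']
        exact congrArg Subtype.val (Subgroup.mem_center_iff.1 (Subgroup.mem_inf.1 hv).2
          ⟨π s, Subgroup.mem_map_of_mem π hs'⟩)
    have hne : stab W₀ z ≠ ⊤ := by
      intro htop
      refine hz₀ (Subgroup.mem_inf.2 ⟨hzW, Subgroup.mem_centralizer_iff.2 fun g hg => ?_⟩)
      have h1 : ⁅g, z⁆ ∈ W₀ := mem_stab.1 (htop ▸ Subgroup.mem_top g)
      set w := ⁅g, z⁆ with hw
      have hgw : g * w = w * g := Subgroup.mem_centralizer_iff.1 (Subgroup.mem_inf.1 h1).2 g hg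
      have hgz : g * z * g⁻¹ = w * z := by rw [hw, commutatorElement_def]; group
      have hit : ∀ k : ℕ, g ^ k * z * (g ^ k)⁻¹ = w ^ k * z := by
        intro k
        induction k with
        | zero => simp
        | succ k ih =>
          calc g ^ (k + 1) * z * (g ^ (k + 1))⁻¹ = g * (g ^ k * z * (g ^ k)⁻¹) * g⁻¹ := by rw [pow_succ']; group
            _ = (g * w ^ k) * z * g⁻¹ := by rw [ih]; group
            _ = w ^ k * (g * z * g⁻¹) := by rw [((show Commute g w from hgw).pow_right k).eq]; group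
            _ = _ := by rw [hgz, ← mul_assoc, ← pow_succ]
      have hwn : w ^ orderOf g = 1 := by
        have := hit (orderOf g)
        rw [pow_orderOf_eq_one, _root_.one_mul, inv_one, _root_.mul_one] at this
        exact mul_eq_right.1 this.symm
      obtain ⟨k, hk⟩ := IsPGroup.iff_orderOf.1 (S.2.to_le (Z_le _)) ⟨w, (Subgroup.mem_inf.1 h1).1⟩
      rw [Subgroup.orderOf_mk] at hk
      have hw1 : w = 1 := orderOf_eq_one_iff.1 (Nat.eq_one_of_dvd_coprimes
        ((show (orderOf g).Coprime p from hg).pow_right k) (orderOf_dvd_of_pow_eq_one hwn) (dvd_of_eq hk))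
      rw [hw] at hw1
      exact commutatorElement_eq_one_iff_mul_comm.1 hw1
    by_cases hcon : ControlsIn (zjN (S : Subgroup G)) (S : Subgroup G) (stab W₀ z)
    · have hs : IsSetup p S W₀ z := ⟨inf_le_left, hzW, hzp, hzS, hcon⟩
      obtain ⟨M, P, hc⟩ := hs.exists_config hbad
      exact hc.conclusion hp hs hz₀
    · refine Conclusion.lift hzS (ih _ (hn ▸ lt_of_le_of_ne (Subgroup.card_le_card_group _)
        fun e => hne (Subgroup.eq_top_of_card_eq _ e)) _ rfl _ fun hK' => hcon fun A hA g hg hgA => ?_)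
      obtain ⟨x, hx, he⟩ := hK' (A.subgroupOf (stab W₀ z)) (fun y hy => hA hy) ⟨g, hg⟩ trivial
        (fun y hy => hgA _ hy)
      refine ⟨x, ?_, fun a ha => congrArg Subtype.val (he ⟨a, hzS (hA ha)⟩ ha)⟩
      have hzj : (zj ((S.subtype hzS : Sylow p (stab W₀ z)) : Subgroup (stab W₀ z))).map (stab W₀ z).subtype = W := by
        rw [hW, ← zj_eq, ← zj_eq, ← CfsgLib.Fsys.centerThompsonAOf_map _ (stab W₀ z).subtype_injective,
          Sylow.coe_subtype, Subgroup.map_subgroupOf_eq_of_le hzS]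
      rw [zjN, ← hW, ← hzj]
      exact Subgroup.le_normalizer_map (stab W₀ z).subtype ⟨x, hx, rfl⟩

end CfsgLib.LocalEven.AutomizerControl
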