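import Cfsg.Agent.Lib.Fusion.Replacement
import Cfsg.Prelude.Def_PLocal

/-!
An abelian subgroup of largest order outside a given subgroup which is normalized by a normal subgroup `V`,
provided that those inside contain `V`.
-/

set_option autoImplicit false
set_option linter.unusedSectionVars false

namespace CfsgLib.LocalEven.AutomizerControl

open scoped commutatorElement

theorem exists_normalized {Γ : Type*} [Group Γ] [Finite Γ] {p : ℕ} [Fact p.Prime] (hp : p ≠ 2)
    (hP : IsPGroup p Γ) (V T : Subgroup Γ) [V.Normal]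
    (hd : ∀ A ∈ Cfsg.maxAbelianSubgroups Γ, ⁅V, V⁆ ≤ A)
    (hin : ∀ A ∈ Cfsg.maxAbelianSubgroups Γ, A ≤ T → V ≤ A)
    (hout : ¬ Cfsg.thompsonSubgroupA Γ ≤ T) :
    ∃ A ∈ Cfsg.maxAbelianSubgroups Γ, ¬ A ≤ T ∧ V ≤ Subgroup.normalizer (A : Set Γ) := by
  have hne : {A | A ∈ Cfsg.maxAbelianSubgroups Γ ∧ ¬ A ≤ T}.Nonempty := by
    by_contra h
    exact hout (sSup_le fun A hA => by_contra fun hAT => h ⟨A, hA, hAT⟩)
  obtain ⟨A, ⟨hA, hAT⟩, hmax⟩ :=
    Set.exists_max_image _ (fun A : Subgroup Γ => Nat.card (A ⊓ V : Subgroup Γ)) (Set.toFinite _) hne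
  refine ⟨A, hA, hAT, ?_⟩
  by_contra hnot
  obtain ⟨x, hx⟩ := Fusion.Replacement.exists_setup (hP.to_subgroup _) (fun h => absurd h hp) hA.1 (hd A hA) hnot
  have hA' : Fusion.Replacement.star A x ∈ Cfsg.maxAbelianSubgroups Γ :=
    ⟨hx.star_comm, fun C hC => (hA.2 C hC).trans hx.card_star.ge⟩
  by_cases hA'T : Fusion.Replacement.star A x ≤ T
  · exact hx.not_le_star (hin _ hA' hA'T)
  · exact absurd (hmax _ ⟨hA', hA'T⟩)
      (not_le.mpr (Set.Finite.card_lt_card (Set.toFinite _) hx.inf_lt))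

/-- An element of an abelian subgroup normalized by `V` acts quadratically on `V`. -/
theorem quad_of_normalized {G : Type*} [Group G] {V A : Subgroup G} [IsMulCommutative A]
    (h : V ≤ Subgroup.normalizer (A : Set G)) {a : G} (ha : a ∈ A) :
    ⁅⁅V, Subgroup.zpowers a⁆, Subgroup.zpowers a⁆ = ⊥ := by
  have hle : Subgroup.zpowers a ≤ A := Subgroup.zpowers_le.2 ha
  refine le_bot_iff.1 ((Subgroup.commutator_mono (Subgroup.commutator_mono le_rfl hle) hle).trans ?_)
  refine (Subgroup.commutator_mono (Subgroup.le_normalizer_iff_commutator_le_right.mp h) le_rfl).trans ?_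
  exact (Subgroup.commutator_eq_bot_iff_le_centralizer.2 A.le_centralizer).le

end CfsgLib.LocalEven.AutomizerControl
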