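import Cfsg.Prelude.Def_LocalEven
import Cfsg.Agent.Lib.LocalEven.SylowIn
import Cfsg.Agent.Lib.LocalEven.InversionControl.Main
import Cfsg.Agent.Lib.LocalEven.AutomizerControl.Replace

/-!
For odd `p`, where the normalizer of `Z(J(S))` does not control fusion in `S`: a minimal configuration.
-/

set_option autoImplicit false
set_option linter.unusedSectionVars false

namespace CfsgLib.LocalEven.AutomizerControl

open CfsgLib.LocalEven.SylowIn CfsgLib.Fusion.ZJGeneral
open scoped commutatorElement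

variable {G : Type*} [Group G] [Finite G]

/-- `Z(J(S))`, in the form with exponents. -/
noncomputable abbrev zj (S : Subgroup G) : Subgroup G := Z (Nat.card G) S

/-- The normalizer of `Z(J(S))`. -/
abbrev zjN (S : Subgroup G) : Subgroup G := Subgroup.normalizer (zj S : Set G)

theorem zj_eq (S : Subgroup G) : Cfsg.centerThompsonAOf S = zj S :=
  InversionControl.centerThompsonAOf_eq_Z_card (U := S) _ (Subgroup.card_subgroup_dvd_card S)

theorem le_zjN (S : Subgroup G) : S ≤ zjN S :=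
  Subgroup.le_normalizer.trans (normalizer_le_normalizer_Z S)

theorem zj_comm {S : Subgroup G} {u v : G} (hu : u ∈ zj S) (hv : v ∈ zj S) : u * v = v * u :=
  (Subgroup.mem_centralizer_iff.1 hu.2.1 v hv.1).symm

theorem abExp_of_comm {A : Subgroup G} (h : IsMulCommutative A) : AbExp (Nat.card G) A :=
  ⟨h, fun _ _ => pow_card_eq_one'⟩

theorem isMaxA_of_mem {U : Subgroup G} {A : Subgroup U} (hA : A ∈ Cfsg.maxAbelianSubgroups U) :
    IsMaxA (Nat.card G) U (A.map U.subtype) := by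
  haveI := hA.1
  refine ⟨Subgroup.map_subtype_le A, abExp_of_comm inferInstance, fun C hC hC' => ?_⟩
  haveI := hC'.1
  rw [Subgroup.card_map_of_injective U.subtype_injective, ← Nat.card_congr (Subgroup.subgroupOfEquivOfLe hC).toEquiv]
  exact hA.2 (C.subgroupOf U) inferInstance

theorem normalizer_le_normalizer_J {m : ℕ} (U : Subgroup G) :
    Subgroup.normalizer (U : Set G) ≤ Subgroup.normalizer (J m U : Set G) := by
  intro g hg
  rw [Subgroup.mem_normalizer_iff_map_conj_eq] at hg ⊢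
  exact (J_map (MulAut.conj g) U).symm.trans (congrArg (J m) hg)

theorem lt_inf_normalizer {p : ℕ} [Fact p.Prime] {S T : Subgroup G} (hS : IsPGroup p S) (hTS : T ≤ S)
    (hne : T ≠ S) : T < S ⊓ Subgroup.normalizer (T : Set G) := by
  haveI := hS.isNilpotent
  refine lt_of_le_of_ne (le_inf hTS Subgroup.le_normalizer) fun e => ?_
  obtain ⟨⟨g, hgS⟩, hg, hgT⟩ := SetLike.exists_of_lt (Group.normalizerCondition_of_isNilpotent (T.subgroupOf S)
    (lt_top_iff_ne_top.2 fun e' => hne (le_antisymm hTS (Subgroup.subgroupOf_eq_top.1 e'))))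
  apply hgT
  rw [Subgroup.mem_subgroupOf, e]
  exact ⟨hgS, Subgroup.mem_normalizer_fintype fun n hn => (Subgroup.mem_normalizer_iff.1 hg ⟨n, hTS hn⟩).1 hn⟩

/-- `g` acts on `A` as an element of `H`. -/
def Agree (H A : Subgroup G) (g : G) : Prop := ∃ x ∈ H, ∀ a ∈ A, g * a * g⁻¹ = x * a * x⁻¹

/-- `H` controls the fusion of subgroups of `S` by elements of `K`. -/
def ControlsIn (H S K : Subgroup G) : Prop :=
  ∀ A ≤ S, ∀ g ∈ K, (∀ a ∈ A, g * a * g⁻¹ ∈ S) → Agree H A g

/-- The stabilizer of `z` modulo `W₀`. -/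
def stab (W₀ : Subgroup G) [W₀.Normal] (z : G) : Subgroup G :=
  (Subgroup.centralizer ({QuotientGroup.mk' W₀ z} : Set (G ⧸ W₀))).comap (QuotientGroup.mk' W₀)

theorem mem_stab {W₀ : Subgroup G} [W₀.Normal] {z g : G} : g ∈ stab W₀ z ↔ ⁅g, z⁆ ∈ W₀ := by
  rw [stab, Subgroup.mem_comap, Subgroup.mem_centralizer_singleton_iff, ← commutatorElement_eq_one_iff_mul_comm,
    ← map_commutatorElement]
  exact QuotientGroup.eq_one_iff _

/-- The choices of `W₀` and `z`, and the inductive hypothesis. -/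
structure IsSetup (p : ℕ) (S : Sylow p G) (W₀ : Subgroup G) [W₀.Normal] (z : G) : Prop where
  le_zj : W₀ ≤ zj (S : Subgroup G)
  mem : z ∈ zj (S : Subgroup G)
  pow_prime_mem : z ^ p ∈ W₀
  le_stab : (S : Subgroup G) ≤ stab W₀ z
  controls : ControlsIn (zjN (S : Subgroup G)) (S : Subgroup G) (stab W₀ z)

variable {p : ℕ} [Fact p.Prime] {S : Sylow p G} {W₀ : Subgroup G} [W₀.Normal] {z : G}

/-- `g` moves `z` modulo `W₀` as an element of the normalizer does. -/
def Good (S : Sylow p G) (W₀ : Subgroup G) [W₀.Normal] (z g : G) : Prop :=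
  ∃ x ∈ zjN (S : Subgroup G), x⁻¹ * g ∈ stab W₀ z

theorem good_of_agree {A : Subgroup G} {g : G} (hz : z ∈ A) (h : Agree (zjN (S : Subgroup G)) A g) :
    Good S W₀ z g := by
  obtain ⟨x, hx, he⟩ := h
  refine ⟨x, hx, mem_stab.2 ?_⟩
  have e : ⁅x⁻¹ * g, z⁆ = x⁻¹ * (g * z * g⁻¹) * x * z⁻¹ := by rw [commutatorElement_def]; group
  rw [e, he z hz, show x⁻¹ * (x * z * x⁻¹) * x * z⁻¹ = 1 by group]
  exact one_mem _

theorem IsSetup.agree_of_good (hs : IsSetup p S W₀ z) {A : Subgroup G} (hA : A ≤ (S : Subgroup G)) {g : G}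
    (hg : ∀ a ∈ A, g * a * g⁻¹ ∈ (S : Subgroup G)) (h : Good S W₀ z g) :
    Agree (zjN (S : Subgroup G)) A g := by
  obtain ⟨x, hx, hc⟩ := h
  set c := x⁻¹ * g with hc'
  set K := zjN (S : Subgroup G) ⊓ stab W₀ z
  have hSK : IsSylowIn p (S : Subgroup G) K :=
    ⟨le_inf (le_zjN _) hs.le_stab, S.2, fun U _ hU hle => S.3 hU hle⟩
  have hAc : A.map (MulAut.conj c).toMonoidHom ≤ K := by
    rintro _ ⟨a, ha, rfl⟩
    refine Subgroup.mem_inf.2 ⟨?_, (stab W₀ z).mul_mem ((stab W₀ z).mul_mem hc (hs.le_stab (hA ha))) ((stab W₀ z).inv_mem hc)⟩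
    show c * a * c⁻¹ ∈ _
    rw [show c * a * c⁻¹ = x⁻¹ * (g * a * g⁻¹) * x by rw [hc']; group]
    exact mul_mem (mul_mem (inv_mem hx) (le_zjN _ (hg a ha))) hx
  obtain ⟨R, hR, hle⟩ := exists_isSylowIn K hAc ((S.2.to_le hA).map _)
  obtain ⟨u, hu, he⟩ := hR.conjugate hSK
  obtain ⟨y, hy, hya⟩ := hs.controls A hA (u * c) (mul_mem (Subgroup.mem_inf.1 hu).2 hc) fun a ha => by
    rw [he]
    exact ⟨c * a * c⁻¹, hle ⟨a, ha, rfl⟩, by simp [mul_assoc]⟩
  refine ⟨x * u⁻¹ * y, mul_mem (mul_mem hx (inv_mem (Subgroup.mem_inf.1 hu).1)) hy, fun a ha => ?_⟩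
  calc g * a * g⁻¹ = x * u⁻¹ * (u * c * a * (u * c)⁻¹) * (x * u⁻¹)⁻¹ := by rw [hc']; group
    _ = _ := by rw [hya a ha]; group

theorem Agree.mono {H A B : Subgroup G} {g : G} (h : Agree H A g) (hle : B ≤ A) : Agree H B g :=
  let ⟨x, hx, he⟩ := h
  ⟨x, hx, fun a ha => he a (hle ha)⟩

theorem conj_mem_of_mem_normalizer {T : Subgroup G} {g a : G} (hg : g ∈ Subgroup.normalizer (T : Set G))
    (ha : a ∈ T) : g * a * g⁻¹ ∈ T := (Subgroup.mem_normalizer_iff.1 hg a).1 ha

theorem IsSetup.agree_of_good_normalizer (hs : IsSetup p S W₀ z) {T : Subgroup G} (hT : T ≤ (S : Subgroup G))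
    {g : G} (hg : g ∈ Subgroup.normalizer (T : Set G)) (h : Good S W₀ z g) : Agree (zjN (S : Subgroup G)) T g :=
  hs.agree_of_good hT (fun _ ha => hT (conj_mem_of_mem_normalizer hg ha)) h

theorem IsSetup.mem_S (hs : IsSetup p S W₀ z) : z ∈ (S : Subgroup G) := Z_le _ hs.mem

theorem IsSetup.le_S (hs : IsSetup p S W₀ z) : W₀ ≤ (S : Subgroup G) := hs.le_zj.trans (Z_le _)

/-- A subgroup of largest order with uncontrolled fusion, fully normalized. -/
theorem IsSetup.exists_start (hs : IsSetup p S W₀ z)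
    (hbad : ¬ ControlsIn (zjN (S : Subgroup G)) (S : Subgroup G) ⊤) :
    ∃ T : Subgroup G, W₀ ≤ T ∧ z ∈ T ∧ T ≤ (S : Subgroup G) ∧ T ≠ (S : Subgroup G) ∧
      IsSylowIn p ((S : Subgroup G) ⊓ Subgroup.normalizer (T : Set G)) (Subgroup.normalizer (T : Set G)) ∧
      (∀ A ≤ (S : Subgroup G), Nat.card T < Nat.card A → ∀ g : G, (∀ a ∈ A, g * a * g⁻¹ ∈ (S : Subgroup G)) →
        Agree (zjN (S : Subgroup G)) A g) ∧
      ∃ n ∈ Subgroup.normalizer (T : Set G), ¬ Good S W₀ z n := by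
  set H := zjN (S : Subgroup G) with hH
  let Bad : Set (Subgroup G) := {A | A ≤ (S : Subgroup G) ∧ ∃ g : G,
    (∀ a ∈ A, g * a * g⁻¹ ∈ (S : Subgroup G)) ∧ ¬ Agree H A g}
  have hne : Bad.Nonempty := by
    simp only [ControlsIn, not_forall] at hbad
    obtain ⟨A, hA, g, -, hg, hb⟩ := hbad
    exact ⟨A, hA, g, hg, hb⟩
  obtain ⟨T, ⟨hTS, g, hgT, hgbad⟩, hmax⟩ :=
    Set.exists_max_image Bad (fun A => Nat.card A) (Set.toFinite _) hne
  have hbig : ∀ A ≤ (S : Subgroup G), Nat.card T < Nat.card A → ∀ g : G,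
      (∀ a ∈ A, g * a * g⁻¹ ∈ (S : Subgroup G)) → Agree H A g := fun A hA hlt g hg => by
    by_contra hb
    exact not_le.2 hlt (hmax A ⟨hA, g, hg, hb⟩)
  have hTne : T ≠ (S : Subgroup G) := by
    intro e
    refine hgbad ⟨g, ?_, fun a _ => rfl⟩
    refine normalizer_le_normalizer_Z (S : Subgroup G) (Subgroup.mem_normalizer_fintype fun n hn => ?_)
    exact hgT n (e ▸ hn)
  have hgrow : ∀ A : Subgroup G, A ≤ (S : Subgroup G) → Nat.card A = Nat.card T →
      Nat.card T < Nat.card ((S : Subgroup G) ⊓ Subgroup.normalizer (A : Set G) : Subgroup G) := by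
    intro A hA hc
    rw [← hc]
    refine Set.Finite.card_lt_card (Set.toFinite _) (lt_inf_normalizer S.2 hA fun e => hTne ?_)
    exact Subgroup.eq_of_le_of_card_ge hTS (by rw [← hc, e])
  -- a fully normalized conjugate
  obtain ⟨Q, hQ, hleQ⟩ := exists_isSylowIn (Subgroup.normalizer (T : Set G))
    (inf_le_right : (S : Subgroup G) ⊓ Subgroup.normalizer (T : Set G) ≤ _) (S.2.to_le inf_le_left)
  obtain ⟨R, hQR⟩ := hQ.2.1.exists_le_sylow
  obtain ⟨y, hy⟩ := MulAction.exists_smul_eq G R S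
  have hyQ : Q.map (MulAut.conj y).toMonoidHom ≤ (S : Subgroup G) := by
    rw [← hy, Sylow.coe_subgroup_smul]
    exact Subgroup.map_mono hQR
  set T₁ := T.map (MulAut.conj y).toMonoidHom with hT₁
  have hTQ : T ≤ Q := (le_inf hTS Subgroup.le_normalizer).trans hleQ
  have hT₁S : T₁ ≤ (S : Subgroup G) := (Subgroup.map_mono hTQ).trans hyQ
  have hQ₁ := hQ.map_conj y
  rw [← normalizer_map_conj, ← hT₁] at hQ₁
  have hP₁ : IsSylowIn p ((S : Subgroup G) ⊓ Subgroup.normalizer (T₁ : Set G))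
      (Subgroup.normalizer (T₁ : Set G)) := by
    have := hQ₁.2.2 _ inf_le_right (S.2.to_le inf_le_left) (le_inf hyQ hQ₁.1)
    rwa [this]
  have hcard₁ : Nat.card T₁ = Nat.card T := Subgroup.card_map_of_injective (MulAut.conj y).injective
  obtain ⟨x₁, hx₁, he₁⟩ := hbig _ inf_le_left (hgrow T hTS rfl) y fun a ha => hyQ ⟨a, hleQ ha, rfl⟩
  -- a bad element normalizing it
  have hbadN : ∃ n ∈ Subgroup.normalizer (T₁ : Set G), ¬ Agree H T₁ n := by
    by_contra hno
    push Not at hno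
    apply hgbad
    set T₂ := T.map (MulAut.conj g).toMonoidHom with hT₂
    have hT₂S : T₂ ≤ (S : Subgroup G) := by rintro _ ⟨a, ha, rfl⟩; exact hgT a ha
    have hcard₂ : Nat.card T₂ = Nat.card T := Subgroup.card_map_of_injective (MulAut.conj g).injective
    set N₂ := (S : Subgroup G) ⊓ Subgroup.normalizer (T₂ : Set G)
    have hmove : N₂.map (MulAut.conj (y * g⁻¹)).toMonoidHom ≤ Subgroup.normalizer (T₁ : Set G) := by
      rw [show T₁ = T₂.map (MulAut.conj (y * g⁻¹)).toMonoidHom by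
        rw [hT₁, hT₂, map_conj_conj, inv_mul_cancel_right], normalizer_map_conj]
      exact Subgroup.map_mono inf_le_right
    obtain ⟨Q', hQ', hle'⟩ := exists_isSylowIn _ hmove ((S.2.to_le inf_le_left).map _)
    obtain ⟨n, hn, hne'⟩ := hQ'.conjugate hP₁
    obtain ⟨x₂, hx₂, he₂⟩ := hbig N₂ inf_le_left (hgrow T₂ hT₂S hcard₂) (n * (y * g⁻¹)) fun a ha => by
      refine Subgroup.mem_inf.1 (show _ ∈ (S : Subgroup G) ⊓ Subgroup.normalizer (T₁ : Set G) from ?_) |>.1
      rw [hne']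
      exact ⟨_, hle' ⟨a, ha, rfl⟩, by simp [mul_assoc]⟩
    obtain ⟨x₃, hx₃, he₃⟩ := hno n hn
    refine ⟨x₂⁻¹ * x₃ * x₁, mul_mem (mul_mem (inv_mem hx₂) hx₃) hx₁, fun a ha => ?_⟩
    have h1 := he₁ a ⟨hTS ha, Subgroup.le_normalizer ha⟩
    have h2 := he₂ (g * a * g⁻¹) ⟨hgT a ha, Subgroup.le_normalizer ⟨a, ha, rfl⟩⟩
    have h3 := he₃ (y * a * y⁻¹) ⟨a, ha, rfl⟩
    calc g * a * g⁻¹ = x₂⁻¹ * (x₂ * (g * a * g⁻¹) * x₂⁻¹) * x₂ := by group
      _ = x₂⁻¹ * (n * (y * a * y⁻¹) * n⁻¹) * x₂ := by rw [← h2]; group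
      _ = _ := by rw [h3, h1]; group
  obtain ⟨n, hn, hnbad⟩ := hbadN
  -- `W₀` lies in it
  have hW₀ : W₀ ≤ T₁ := by
    have hle : T₁ ⊔ W₀ ≤ (S : Subgroup G) := sup_le hT₁S hs.le_S
    have hmap : (T₁ ⊔ W₀).map (MulAut.conj n).toMonoidHom = T₁ ⊔ W₀ := by
      rw [Subgroup.map_sup, map_conj_eq_iff.2 hn,
        map_conj_eq_iff.2 (by rw [Subgroup.normalizer_eq_top]; trivial)]
    have h1 := hmax (T₁ ⊔ W₀) ⟨hle, n, fun a ha => hle (hmap.le ⟨a, ha, rfl⟩),
      fun h => hnbad (h.mono le_sup_left)⟩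
    rw [← hcard₁] at h1
    exact le_sup_right.trans (Subgroup.eq_of_le_of_card_ge le_sup_left h1).ge
  -- `z` lies in it
  have hz : z ∈ T₁ := by
    by_contra hz
    set M := Subgroup.normalizer (T₁ : Set G) with hM
    let C₁ : Subgroup G := Subgroup.centralizer (W₀ : Set G)
    let C₂ : Subgroup G := (Subgroup.centralizer
      ((T₁.map (QuotientGroup.mk' W₀) : Subgroup (G ⧸ W₀)) : Set (G ⧸ W₀))).comap (QuotientGroup.mk' W₀)
    set K := M ⊓ C₁ ⊓ C₂ with hK
    have hzK : z ∈ K := by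
      have hzC2 : ∀ t ∈ T₁, ⁅t, z⁆ ∈ W₀ := fun t ht => mem_stab.1 (hs.le_stab (hT₁S ht))
      refine Subgroup.mem_inf.2 ⟨Subgroup.mem_inf.2 ⟨Subgroup.mem_normalizer_fintype fun t ht => ?_, ?_⟩, ?_⟩
      · have e : z * t * z⁻¹ = ⁅t, z⁆⁻¹ * t := by rw [commutatorElement_def]; group
        rw [e]
        exact mul_mem (inv_mem (hW₀ (hzC2 t ht))) ht
      · exact Subgroup.mem_centralizer_iff.2 fun w hw => zj_comm (hs.le_zj hw) hs.mem
      · refine Subgroup.mem_comap.2 (Subgroup.mem_centralizer_iff.2 ?_)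
        rintro _ ⟨t, ht, rfl⟩
        rw [← commutatorElement_eq_one_iff_mul_comm, ← map_commutatorElement]
        exact (QuotientGroup.eq_one_iff _).2 (hzC2 t ht)
    have hKM : K ≤ M := inf_le_left.trans inf_le_left
    have hnorm : M ≤ Subgroup.normalizer (K : Set G) := by
      refine le_normalizer_of_map_conj fun m hm => ?_
      have hC1 : (C₁).map (MulAut.conj m).toMonoidHom = C₁ := by
        rw [← centralizer_map_conj, map_conj_eq_iff.2 (by rw [Subgroup.normalizer_eq_top]; trivial)]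
      have hC2 : (C₂).map (MulAut.conj m).toMonoidHom = C₂ := by
        have h1 : QuotientGroup.mk' W₀ m ∈ Subgroup.normalizer
            ((T₁.map (QuotientGroup.mk' W₀) : Subgroup (G ⧸ W₀)) : Set (G ⧸ W₀)) :=
          Subgroup.le_normalizer_map (QuotientGroup.mk' W₀) ⟨m, hm, rfl⟩
        refine map_conj_eq_iff.2 (Subgroup.mem_normalizer_iff.2 fun c => ?_)
        simp only [C₂, Subgroup.mem_comap, map_mul, map_inv]
        refine (Subgroup.mem_normalizer_iff.1 ?_ _)
        rw [← map_conj_eq_iff, ← centralizer_map_conj, map_conj_eq_iff.2 h1]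
      rw [hK, Subgroup.map_inf _ _ _ (MulAut.conj m).injective, Subgroup.map_inf _ _ _ (MulAut.conj m).injective,
        map_conj_eq_iff.2 (Subgroup.le_normalizer hm), hC1, hC2]
    -- coprime elements of `K` centralize `T₁`
    have hser : ∀ m ∈ K, (orderOf m).Coprime p → ∀ t ∈ T₁, m * t * m⁻¹ = t := by
      intro m hm hmp t ht
      obtain ⟨⟨-, hm1⟩, hm2⟩ := Subgroup.mem_inf.1 hm |>.imp_left Subgroup.mem_inf.1
      set w := ⁅m, t⁆ with hw
      have hwW : w ∈ W₀ := by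
        rw [← QuotientGroup.eq_one_iff, hw]
        show QuotientGroup.mk' W₀ ⁅m, t⁆ = 1
        rw [map_commutatorElement, commutatorElement_eq_one_iff_mul_comm]
        exact (Subgroup.mem_centralizer_iff.1 (Subgroup.mem_comap.1 hm2) _ ⟨t, ht, rfl⟩).symm
      have hmw : m * w = w * m := (Subgroup.mem_centralizer_iff.1 hm1 w hwW).symm
      have hmt : m * t * m⁻¹ = w * t := by rw [hw, commutatorElement_def]; group
      have hit : ∀ k : ℕ, m ^ k * t * (m ^ k)⁻¹ = w ^ k * t := by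
        intro k
        induction k with
        | zero => simp
        | succ k ih =>
          calc m ^ (k + 1) * t * (m ^ (k + 1))⁻¹ = m * (m ^ k * t * (m ^ k)⁻¹) * m⁻¹ := by rw [pow_succ']; group
            _ = (m * w ^ k) * t * m⁻¹ := by rw [ih]; group
            _ = w ^ k * (m * t * m⁻¹) := by rw [((show Commute m w from hmw).pow_right k).eq]; group
            _ = _ := by rw [hmt, ← mul_assoc, ← pow_succ]
      have hwn : w ^ orderOf m = 1 := by
        have := hit (orderOf m)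
        rw [pow_orderOf_eq_one, _root_.one_mul, inv_one, _root_.mul_one] at this
        exact mul_eq_right.1 this.symm
      obtain ⟨k, hk⟩ := IsPGroup.iff_orderOf.1 (S.2.to_le hs.le_S) ⟨w, hwW⟩
      rw [Subgroup.orderOf_mk] at hk
      have hw1 : w = 1 := orderOf_eq_one_iff.1 (Nat.eq_one_of_dvd_coprimes (hmp.pow_right k)
        (orderOf_dvd_of_pow_eq_one hwn) (dvd_of_eq hk))
      rw [hmt, hw1, _root_.one_mul]
    -- Frattini
    set P := (S : Subgroup G) ⊓ M with hP
    have hKT : K ⊔ T₁ ≤ M := sup_le hKM Subgroup.le_normalizer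
    have hKTn : M ≤ Subgroup.normalizer ((K ⊔ T₁ : Subgroup G) : Set G) := le_normalizer_of_map_conj fun m hm => by
      rw [Subgroup.map_sup, map_conj_eq_iff.2 (hnorm hm), map_conj_eq_iff.2 hm]
    have hPsyl : ∀ L : Subgroup G, L ≤ M → M ≤ Subgroup.normalizer (L : Set G) → IsSylowIn p (L ⊓ P) L := by
      intro L hL hLn
      obtain ⟨R₀, hR₀, hle⟩ := exists_isSylowIn L (inf_le_left : L ⊓ P ≤ L) (S.2.to_le (inf_le_right.trans inf_le_left))
      obtain ⟨R', hR', hle'⟩ := exists_isSylowIn M (hR₀.1.trans hL) hR₀.2.1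
      obtain ⟨v, hv, hve⟩ := hR'.conjugate hP₁
      have h1 : R₀.map (MulAut.conj v).toMonoidHom ≤ L ⊓ P := le_inf
        (by rw [← map_conj_eq_iff.2 (hLn hv)]; exact Subgroup.map_mono hR₀.1)
        (le_trans (Subgroup.map_mono hle') hve.ge)
      have h2 : R₀ = L ⊓ P := (Subgroup.eq_of_le_of_card_ge hle (by
        have := Subgroup.card_le_of_le h1
        rwa [Subgroup.card_map_of_injective (MulAut.conj v).injective] at this)).symm
      exact h2 ▸ hR₀
    set R := (K ⊔ T₁) ⊓ P with hR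
    have hRsyl := hPsyl _ hKT hKTn
    rw [← hR] at hRsyl
    have hRbig : Nat.card T < Nat.card R := by
      rw [← hcard₁]
      refine Set.Finite.card_lt_card (Set.toFinite _) (SetLike.coe_ssubset_coe.2 (lt_of_le_of_ne ?_ fun e => hz ?_))
      · exact le_inf le_sup_right (le_inf hT₁S Subgroup.le_normalizer)
      · rw [e]
        exact ⟨Subgroup.mem_sup_left hzK, hs.mem_S, hKM hzK⟩
    apply hnbad
    -- every element of `M` agrees
    let HT : Subgroup G :=
      { carrier := {m | m ∈ M ∧ Agree H T₁ m}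
        one_mem' := ⟨one_mem _, 1, one_mem _, fun _ _ => rfl⟩
        mul_mem' := by
          rintro a b ⟨ha, xa, hxa, hea⟩ ⟨hb, xb, hxb, heb⟩
          refine ⟨mul_mem ha hb, xa * xb, mul_mem hxa hxb, fun t ht => ?_⟩
          calc a * b * t * (a * b)⁻¹ = a * (b * t * b⁻¹) * a⁻¹ := by group
            _ = xa * (b * t * b⁻¹) * xa⁻¹ := hea _ (conj_mem_of_mem_normalizer hb ht)
            _ = _ := by rw [heb t ht]; group
        inv_mem' := by
          rintro a ⟨ha, xa, hxa, hea⟩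
          refine ⟨inv_mem ha, xa⁻¹, inv_mem hxa, fun t ht => ?_⟩
          have h1 := hea _ (conj_mem_of_mem_normalizer (inv_mem ha) ht)
          rw [show a * (a⁻¹ * t * a⁻¹⁻¹) * a⁻¹ = t by group] at h1
          calc a⁻¹ * t * a⁻¹⁻¹ = xa⁻¹ * (xa * (a⁻¹ * t * a⁻¹⁻¹) * xa⁻¹) * xa⁻¹⁻¹ := by group
            _ = _ := by rw [← h1] }
    suffices hall : M ≤ HT from (hall hn).2
    have hPHT : ∀ x ∈ P, x ∈ HT := fun x hx => ⟨hx.2, x, le_zjN _ hx.1, fun _ _ => rfl⟩
    have hKHT : K ≤ HT := by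
      intro m hm
      have hKsyl := hPsyl K hKM hnorm
      obtain ⟨i, q, hq, hmq⟩ := Nat.exists_eq_pow_mul_and_not_dvd (orderOf_pos m).ne' p
        (Fact.out : p.Prime).one_lt.ne'
      set D := K ⊓ Subgroup.centralizer (T₁ : Set G) with hD
      -- `K` is a product of `D` and a Sylow subgroup
      suffices hKle : K ≤ (K ⊓ P) ⊔ D from by
        have hle : (K ⊓ P) ⊔ D ≤ HT := by
          refine sup_le (fun x hx => hPHT x (Subgroup.mem_inf.1 hx).2) fun x hx => ?_
          exact ⟨hKM hx.1, 1, one_mem _, fun t ht => by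
            rw [mul_inv_eq_iff_eq_mul, ← (Subgroup.mem_centralizer_iff.1 hx.2 t ht)]; simp⟩
        exact hle (hKle hm)
      have hDn : K ≤ Subgroup.normalizer (D : Set G) := le_normalizer_of_map_conj fun k hk => by
        rw [hD, Subgroup.map_inf _ _ _ (MulAut.conj k).injective, ← centralizer_map_conj,
          map_conj_eq_iff.2 (Subgroup.le_normalizer hk), map_conj_eq_iff.2 (hKM hk)]
      haveI : (D.subgroupOf K).Normal := Subgroup.normal_subgroupOf_of_le_normalizer hDn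
      have hquot : IsPGroup p (K ⧸ D.subgroupOf K) := by
        intro x
        obtain ⟨⟨k, hk⟩, rfl⟩ := QuotientGroup.mk_surjective x
        obtain ⟨j, r, hr, hkr⟩ := Nat.exists_eq_pow_mul_and_not_dvd (orderOf_pos k).ne' p
          (Fact.out : p.Prime).one_lt.ne'
        refine ⟨j, ?_⟩
        rw [← QuotientGroup.mk_pow, QuotientGroup.eq_one_iff, Subgroup.mem_subgroupOf]
        refine ⟨_root_.pow_mem hk _, Subgroup.mem_centralizer_iff.2 fun t ht => ?_⟩
        have ho : (orderOf (k ^ p ^ j)).Coprime p := by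
          rw [orderOf_pow_of_dvd (pow_ne_zero _ (Fact.out : p.Prime).ne_zero) (hkr ▸ dvd_mul_right _ _), hkr,
            Nat.mul_div_cancel_left _ (pow_pos (Fact.out : p.Prime).pos _)]
          exact ((Fact.out : p.Prime).coprime_iff_not_dvd.2 hr).symm
        have := hser _ (_root_.pow_mem hk _) ho t ht
        exact (mul_inv_eq_iff_eq_mul.1 this).symm
      have hs' := Sylow.coe_mapSurjective (QuotientGroup.mk'_surjective (D.subgroupOf K)) hKsyl.toSylow
      have htop : ((hKsyl.toSylow : Subgroup K)).map (QuotientGroup.mk' (D.subgroupOf K)) = ⊤ := by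
        rw [← hs']
        exact ((Sylow.mapSurjective (QuotientGroup.mk'_surjective (D.subgroupOf K)) hKsyl.toSylow).3
          (hquot.to_subgroup ⊤) le_top).symm
      intro k hk
      obtain ⟨⟨r, hr⟩, hr', he⟩ := htop.ge (Subgroup.mem_top (QuotientGroup.mk' _ ⟨k, hk⟩))
      have h1 : (r⁻¹ * k : G) ∈ D := Subgroup.mem_subgroupOf.1 ((QuotientGroup.eq (s := D.subgroupOf K)).1 he)
      have h2 := mul_mem (Subgroup.mem_sup_left (T := D) (show r ∈ K ⊓ P from hr')) (Subgroup.mem_sup_right h1)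
      rwa [mul_inv_cancel_left] at h2
    intro m hm
    obtain ⟨l, hl, r, hr, rfl⟩ := frattini_argument hRsyl hKTn hKT hm
    refine mul_mem ((sup_le hKHT fun t ht => hPHT t ⟨hT₁S ht, Subgroup.le_normalizer ht⟩) hl) ?_
    have hr' := Subgroup.mem_inf.1 hr
    refine ⟨hr'.1, (hbig R (inf_le_right.trans inf_le_left) hRbig r fun a ha => ?_).mono ?_⟩
    · exact (inf_le_right.trans inf_le_left : R ≤ (S : Subgroup G)) (conj_mem_of_mem_normalizer hr'.2 ha)
    · exact le_inf le_sup_right (le_inf hT₁S Subgroup.le_normalizer)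
  refine ⟨T₁, hW₀, hz, hT₁S, fun e => hTne (Subgroup.eq_of_le_of_card_ge hTS (by rw [← hcard₁, e])), hP₁,
    fun A hA hlt => hbig A hA (hcard₁ ▸ hlt), n, hn, fun hgood => hnbad ?_⟩
  exact hs.agree_of_good_normalizer hT₁S hn hgood

end CfsgLib.LocalEven.AutomizerControl
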